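import Cfsg.Agent.Lib.Suzuki2.TypeAModel

/-!
Central extensions with the same squares, compared over the kernel and the factor group (after
`Suzuki2.iso_of_squares`, which forgets the compatibility).
-/

set_option autoImplicit false

namespace Cfsg.Agent.U3Rec

universe u v w x

/-- Two central extensions of groups of exponent two with the same squares are isomorphic over the kernel
and the factor group. -/
theorem iso_over {P : Type u} [Group P] [Finite P] {R : Type v} [Group R] [Finite R]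
    {A : Type w} [Group A] {V : Type x} [Group V]
    (π : P →* A) (ρ : R →* A) (iP : V →* P) (iR : V →* R)
    (hπs : Function.Surjective π) (hρs : Function.Surjective ρ)
    (hiP : Function.Injective iP) (hiR : Function.Injective iR)
    (hπk : π.ker = iP.range) (hρk : ρ.ker = iR.range)
    (hPc : iP.range ≤ Subgroup.center P) (hRc : iR.range ≤ Subgroup.center R)
    (hsq : ∀ p r, π p = ρ r → ∃ v, p * p = iP v ∧ r * r = iR v) :
    ∃ e : P ≃* R, (∀ p, ρ (e p) = π p) ∧ ∀ v, e (iP v) = iR v := by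
  classical
  let H : Subgroup (P × R) := MonoidHom.eqLocus (π.comp (MonoidHom.fst P R)) (ρ.comp (MonoidHom.snd P R))
  have hH : ∀ z : P × R, z ∈ H ↔ π z.1 = ρ z.2 := fun z => Iff.rfl
  have hπv : ∀ v, π (iP v) = 1 := fun v =>
    MonoidHom.mem_ker.1 (hπk ▸ MonoidHom.mem_range.2 ⟨v, rfl⟩)
  have hρv : ∀ v, ρ (iR v) = 1 := fun v =>
    MonoidHom.mem_ker.1 (hρk ▸ MonoidHom.mem_range.2 ⟨v, rfl⟩)
  let δ : V →* H := (iP.prod iR).codRestrict H fun v => (hH _).2 (by simp [hπv, hρv])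
  haveI hN : δ.range.Normal := ⟨fun n hn g => by
    obtain ⟨v, rfl⟩ := hn
    have e : g * δ v * g⁻¹ = δ v := by
      refine Subtype.ext (Prod.ext ?_ ?_)
      · show (g : P × R).1 * iP v * ((g : P × R).1)⁻¹ = iP v
        rw [Subgroup.mem_center_iff.1 (hPc ⟨v, rfl⟩) _, mul_inv_cancel_right]
      · show (g : P × R).2 * iR v * ((g : P × R).2)⁻¹ = iR v
        rw [Subgroup.mem_center_iff.1 (hRc ⟨v, rfl⟩) _, mul_inv_cancel_right]
    rw [e]; exact ⟨v, rfl⟩⟩
  have hEsq : ∀ e : H ⧸ δ.range, e * e = 1 := fun e => by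
    obtain ⟨⟨⟨p, r⟩, hpr⟩, rfl⟩ := QuotientGroup.mk_surjective e
    obtain ⟨v, hp, hr⟩ := hsq p r hpr
    rw [← QuotientGroup.mk_mul, QuotientGroup.eq_one_iff]
    exact ⟨v, Subtype.ext (Prod.ext hp.symm hr.symm)⟩
  let j : V →* H := (iP.prod 1).codRestrict H fun v => (hH _).2 (by simp [hπv])
  set V1 := j.range.map (QuotientGroup.mk' δ.range) with hV1
  obtain ⟨W, hWV, hWV'⟩ := Suzuki2.exists_complement_of_sq hEsq V1
  set W' := (W.comap (QuotientGroup.mk' δ.range)).map H.subtype with hW'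
  have hδW : ∀ v, ((δ v : H) : P × R) ∈ W' := fun v => Subgroup.mem_map.2 ⟨δ v, by
    show ((δ v : H) : H ⧸ δ.range) ∈ W
    rw [(QuotientGroup.eq_one_iff (N := δ.range) (δ v)).2 ⟨v, rfl⟩]; exact one_mem _, rfl⟩
  -- no element of `W'` is `(iP v, 1)`
  have hkey : ∀ v, ((iP v, (1 : R)) : P × R) ∈ W' → v = 1 := by
    rintro v ⟨w, hw, hwv⟩
    have hwj : w = j v := Subtype.ext hwv
    subst hwj
    have h1 : ((j v : H) : H ⧸ δ.range) ∈ W ⊓ V1 :=
      Subgroup.mem_inf.2 ⟨hw, ⟨j v, ⟨v, rfl⟩, rfl⟩⟩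
    rw [hWV, Subgroup.mem_bot, QuotientGroup.eq_one_iff] at h1
    obtain ⟨v', hv'⟩ := h1
    have e1 : iP v' = iP v := congrArg (fun z : H => z.1.1) hv'
    have e2 : iR v' = 1 := congrArg (fun z : H => z.1.2) hv'
    rw [← hiP e1]
    exact hiR (e2.trans (map_one iR).symm)
  have hfst : Function.Surjective ((MonoidHom.fst P R).comp W'.subtype) := by
    intro p
    obtain ⟨r, hr⟩ := hρs (π p)
    let z : H := ⟨(p, r), hr.symm⟩
    have hz : (z : H ⧸ δ.range) ∈ W ⊔ V1 := hWV' ▸ Subgroup.mem_top _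
    haveI : V1.Normal := ⟨fun n hn g => by
      have hc : ∀ a b : H ⧸ δ.range, a * b = b * a := fun a b => by
        have ha := inv_eq_of_mul_eq_one_right (hEsq a)
        have hb := inv_eq_of_mul_eq_one_right (hEsq b)
        have hab := inv_eq_of_mul_eq_one_right (hEsq (a * b))
        rw [mul_inv_rev, ha, hb] at hab
        exact hab.symm
      rwa [hc g, mul_inv_cancel_right]⟩
    obtain ⟨w, hw, w1, hw1, hww⟩ := Subgroup.mem_sup_of_normal_right.1 hz
    obtain ⟨_, ⟨v, rfl⟩, rfl⟩ := hw1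
    have hm : ((z * (j v)⁻¹ : H) : P × R) ∈ W' := by
      refine Subgroup.mem_map.2 ⟨z * (j v)⁻¹, ?_, rfl⟩
      show ((z * (j v)⁻¹ : H) : H ⧸ δ.range) ∈ W
      rw [QuotientGroup.mk_mul, QuotientGroup.mk_inv, ← hww]
      show w * (j v : H ⧸ δ.range) * (j v : H ⧸ δ.range)⁻¹ ∈ W
      rwa [mul_inv_cancel_right]
    refine ⟨⟨_, W'.mul_mem hm (hδW v)⟩, ?_⟩
    show p * (iP v)⁻¹ * iP v = p
    rw [inv_mul_cancel_right]
  have hsnd : Function.Injective ((MonoidHom.snd P R).comp W'.subtype) := by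
    refine (injective_iff_map_eq_one _).2 fun ⟨⟨p, r⟩, hpr⟩ h => ?_
    have hr : r = 1 := h
    subst hr
    obtain ⟨z, hz, hze⟩ := hpr
    have hp : π p = 1 := by
      have e := z.2
      rw [show (z : P × R) = (p, 1) from hze] at e
      exact e.trans (map_one ρ)
    obtain ⟨v, rfl⟩ := MonoidHom.mem_range.1 (hπk ▸ MonoidHom.mem_ker.2 hp)
    refine Subtype.ext (Prod.ext ?_ rfl)
    show iP v = 1
    rw [hkey v ⟨z, hz, hze⟩, map_one]
  have hfinj : Function.Injective ((MonoidHom.fst P R).comp W'.subtype) := by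
    refine (injective_iff_map_eq_one _).2 fun ⟨⟨p, r⟩, hpr⟩ h => ?_
    have hp : p = 1 := h
    subst hp
    obtain ⟨z, hz, hze⟩ := hpr
    have hr : ρ r = 1 := by
      have e := z.2
      rw [show (z : P × R) = (1, r) from hze] at e
      exact e.symm.trans (map_one π)
    obtain ⟨v, rfl⟩ := MonoidHom.mem_range.1 (hρk ▸ MonoidHom.mem_ker.2 hr)
    have hmem : ((iP v, (1 : R)) : P × R) ∈ W' := by
      have := W'.mul_mem (hδW v) (W'.inv_mem (⟨z, hz, hze⟩ : ((1 : P), iR v) ∈ W'))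
      simpa [δ] using this
    refine Subtype.ext (Prod.ext rfl ?_)
    show iR v = 1
    rw [hkey v hmem, map_one]
  have hcard : Nat.card W' = Nat.card R := by
    rw [Nat.card_congr (Equiv.ofBijective _ ⟨hfinj, hfst⟩),
      Subgroup.card_eq_card_quotient_mul_card_subgroup π.ker,
      Subgroup.card_eq_card_quotient_mul_card_subgroup ρ.ker,
      Nat.card_congr (QuotientGroup.quotientKerEquivOfSurjective π hπs).toEquiv,
      Nat.card_congr (QuotientGroup.quotientKerEquivOfSurjective ρ hρs).toEquiv, hπk, hρk,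
      Nat.card_congr (MonoidHom.ofInjective hiP).toEquiv.symm,
      Nat.card_congr (MonoidHom.ofInjective hiR).toEquiv.symm]
  have hsbij : Function.Bijective ((MonoidHom.snd P R).comp W'.subtype) :=
    (Nat.bijective_iff_injective_and_card _).2 ⟨hsnd, hcard⟩
  let e1 := MulEquiv.ofBijective _ (⟨hfinj, hfst⟩ : Function.Bijective ((MonoidHom.fst P R).comp W'.subtype))
  refine ⟨e1.symm.trans (MulEquiv.ofBijective _ hsbij), fun p => ?_, fun v => ?_⟩
  · obtain ⟨w, rfl⟩ := e1.surjective p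
    rw [MulEquiv.trans_apply, MulEquiv.symm_apply_apply]
    obtain ⟨z, -, hze⟩ := w.2
    show ρ w.1.2 = π w.1.1
    rw [← show (z : P × R) = w.1 from hze]
    exact z.2.symm
  · have : e1.symm (iP v) = ⟨_, hδW v⟩ := (MulEquiv.symm_apply_eq _).2 rfl
    rw [MulEquiv.trans_apply, this]
    rfl

end Cfsg.Agent.U3Rec
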