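import Cfsg.Agent.Lib.U3Rec.Recog
import Cfsg.Agent.Lib.U3Rec.Extension
import Cfsg.Agent.Lib.Suzuki2.TypeA
import Cfsg.Agent.Lib.Suzuki2.Coord
import Cfsg.Agent.Lib.Suzuki2.FieldTools

/-!
Coordinates: a central extension of order `q³` with a torus regular on the factor group is the root group of
`SU₃(q)` with the full torus acting by `(a, b) ↦ (μ a, N μ b)`.
-/

set_option autoImplicit false
set_option linter.unusedSectionVars false

namespace Cfsg.Agent.U3Rec

open PSU3Index
open Cfsg.Agent.SU3Root (uu ww dd)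

universe u

variable {P D : Type u} [Group P] [Finite P] [CommGroup D]

/-- A torus regular on the factor group of the involutions. -/
structure TorusData (φ : D →* MulAut P) (A : Subgroup P) (q : ℕ) : Prop where
  central : A ≤ Subgroup.center P
  sq_mem : ∀ x, x * x ∈ A
  sq_one : ∀ a ∈ A, a * a = 1
  sq_onto : ∀ a ∈ A, a ≠ 1 → ∃ x, x * x = a
  map_mem : ∀ d, ∀ a ∈ A, φ d a ∈ A
  transitive : ∀ x y, x ∉ A → y ∉ A → ∃ d, (φ d x)⁻¹ * y ∈ A
  free : ∀ d x, x ∉ A → (φ d x)⁻¹ * x ∈ A → d = 1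
  card_A : Nat.card A = q
  card_P : Nat.card P = q ^ 3

variable {φ : D →* MulAut P} {A : Subgroup P} {q : ℕ}

theorem TorusData.commute (T : TorusData φ A q) {a : P} (ha : a ∈ A) (x : P) : x * a = a * x :=
  Subgroup.mem_center_iff.1 (T.central ha) x

theorem TorusData.normal (T : TorusData φ A q) : A.Normal := ⟨fun a ha g => by
  rwa [T.commute ha g, mul_inv_cancel_right]⟩

theorem TorusData.card_quot (T : TorusData φ A q) : Nat.card (P ⧸ A) = q ^ 2 := by
  have h := A.card_eq_card_quotient_mul_card_subgroup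
  rw [T.card_A, T.card_P, pow_succ] at h
  exact (Nat.eq_of_mul_eq_mul_right (T.card_A ▸ Nat.card_pos) h).symm

variable {F : Type*} [Field F] [Fintype F]

/-- Coordinates on the factor group. -/
theorem TorusData.exists_quot_coord (T : TorusData φ A q) (hq : 1 < q) (hF : Fintype.card F = q ^ 2) :
    ∃ (κ : P → F) (g : D ≃* Fˣ), (∀ x y, κ (x * y) = κ x + κ y) ∧ (∀ x, κ x = 0 ↔ x ∈ A) ∧
      Function.Surjective κ ∧ ∀ d x, κ (φ d x) = (g d : F) * κ x := by
  haveI := T.normal
  have hqs : ∀ u : P ⧸ A, u * u = 1 := fun u => by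
    obtain ⟨x, rfl⟩ := QuotientGroup.mk_surjective u
    rw [← QuotientGroup.mk_mul, QuotientGroup.eq_one_iff]
    exact T.sq_mem x
  letI : CommGroup (P ⧸ A) :=
    { (inferInstance : Group (P ⧸ A)) with
      mul_comm := fun a b => by
        have ha := inv_eq_of_mul_eq_one_right (hqs a)
        have hb := inv_eq_of_mul_eq_one_right (hqs b)
        have hab := inv_eq_of_mul_eq_one_right (hqs (a * b))
        rw [mul_inv_rev, ha, hb] at hab
        exact hab.symm }
  let M : D → P ⧸ A →* P ⧸ A := fun d =>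
    QuotientGroup.map A A (φ d).toMonoidHom fun a ha => T.map_mem d a ha
  have hM : ∀ d (x : P), M d (x : P ⧸ A) = ((φ d x : P) : P ⧸ A) := fun d x => rfl
  let act : D → Additive (P ⧸ A) → Additive (P ⧸ A) := fun d u => Additive.ofMul (M d u.toMul)
  have hnm : ∀ x : P, ((x : P ⧸ A) : P ⧸ A) ≠ 1 → x ∉ A := fun x h hx => h ((QuotientGroup.eq_one_iff x).2 hx)
  obtain ⟨K, iK, iKf, iKc, e, g, heg⟩ := Suzuki2.exists_field act
    (fun u => by
      obtain ⟨x, hx⟩ := QuotientGroup.mk_surjective u.toMul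
      show Additive.ofMul (M 1 u.toMul) = u
      rw [← hx, hM, map_one, MulAut.one_apply, hx]; rfl)
    (fun k l u => by
      obtain ⟨x, hx⟩ := QuotientGroup.mk_surjective u.toMul
      show Additive.ofMul (M (k * l) u.toMul) = Additive.ofMul (M k (M l u.toMul))
      rw [← hx, hM, hM, hM, map_mul, MulAut.mul_apply])
    (fun k u v => by
      show Additive.ofMul (M k (u.toMul * v.toMul)) = _
      rw [map_mul]; rfl)
    (fun u => Additive.toMul.injective (hqs u.toMul)) mul_comm
    (fun u w hu hw => by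
      obtain ⟨x, hx⟩ := QuotientGroup.mk_surjective u.toMul
      obtain ⟨y, hy⟩ := QuotientGroup.mk_surjective w.toMul
      have hxA : x ∉ A := hnm x fun h => hu (Additive.toMul.injective (hx.symm.trans h))
      have hyA : y ∉ A := hnm y fun h => hw (Additive.toMul.injective (hy.symm.trans h))
      obtain ⟨d, hd⟩ := T.transitive x y hxA hyA
      refine ⟨d, Additive.toMul.injective (by
        show M d u.toMul = w.toMul
        rw [← hx, ← hy, hM]
        exact QuotientGroup.eq.2 hd), fun d' hd' => ?_⟩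
      have e1 : ((φ d' x : P) : P ⧸ A) = y := by
        have := congrArg Additive.toMul hd'
        rw [← hy] at this
        rw [← hM, ← this, hx]; rfl
      refine inv_mul_eq_one.1 (T.free (d⁻¹ * d') x hxA (QuotientGroup.eq.1 ?_)) |>.symm
      have e2 : ((φ d x : P) : P ⧸ A) = y := QuotientGroup.eq.2 hd
      rw [map_mul, MulAut.mul_apply, ← hM d⁻¹ (φ d' x), e1, ← e2, hM, ← MulAut.mul_apply, ← map_mul,
        inv_mul_cancel, map_one, MulAut.one_apply])
    (by
      haveI : Nontrivial (P ⧸ A) := Finite.one_lt_card_iff_nontrivial.1 (by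
        rw [T.card_quot]; exact Nat.one_lt_pow two_ne_zero hq)
      exact exists_ne 0)
  have hK : Fintype.card K = Fintype.card F := by
    rw [hF, ← Nat.card_eq_fintype_card, ← Nat.card_congr e.toEquiv]
    exact T.card_quot
  let ρ : K ≃+* F := FiniteField.ringEquivOfCardEq (K := K) (K' := F) hK
  refine ⟨fun x => ρ (e (Additive.ofMul (x : P ⧸ A))), g.trans (Units.mapEquiv (ρ : K ≃* F)), fun x y => ?_,
    fun x => ?_, fun y => ?_, fun d x => ?_⟩
  · show ρ (e (Additive.ofMul ((x : P ⧸ A) * (y : P ⧸ A)))) = _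
    rw [ofMul_mul, map_add, map_add]
  · rw [map_eq_zero_iff _ ρ.injective, map_eq_zero_iff _ e.injective]
    exact QuotientGroup.eq_one_iff x
  · obtain ⟨x, hx⟩ := QuotientGroup.mk_surjective (e.symm (ρ.symm y)).toMul
    refine ⟨x, ?_⟩
    show ρ (e (Additive.ofMul (x : P ⧸ A))) = y
    rw [hx]; simp
  · show ρ (e (act d (Additive.ofMul (x : P ⧸ A)))) = _
    rw [heg, map_mul]; rfl

/-- The action of the torus on the involutions. -/
def TorusData.onA (T : TorusData φ A q) : D →* MulAut A where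
  toFun d :=
    { toFun := fun a => ⟨φ d a, T.map_mem d a a.2⟩
      invFun := fun a => ⟨φ d⁻¹ a, T.map_mem _ a a.2⟩
      left_inv := fun a => Subtype.ext (by
        show φ d⁻¹ (φ d (a : P)) = a
        rw [← MulAut.mul_apply, ← map_mul, inv_mul_cancel, map_one, MulAut.one_apply])
      right_inv := fun a => Subtype.ext (by
        show φ d (φ d⁻¹ (a : P)) = a
        rw [← MulAut.mul_apply, ← map_mul, mul_inv_cancel, map_one, MulAut.one_apply])
      map_mul' := fun a b => Subtype.ext (map_mul (φ d) (a : P) b) }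
  map_one' := MulEquiv.ext fun a => Subtype.ext (by simp)
  map_mul' k l := MulEquiv.ext fun a => Subtype.ext (by simp)

/-- Coordinates on the involutions. -/
theorem TorusData.exists_inv_coord (T : TorusData φ A q) (hq : 1 < q) (C : Ctx F q) :
    ∃ (η : P → F) (χ : D → F), (∀ a ∈ A, ∀ b ∈ A, η (a * b) = η a + η b) ∧
      (∀ a ∈ A, C.σ (η a) = η a) ∧ (∀ a ∈ A, η a = 0 → a = 1) ∧ (∀ d, ∀ a ∈ A, η (φ d a) = χ d * η a) ∧
      ∀ r : F, C.σ r = r → ∃ a ∈ A, η a = r := by
  classical
  letI : CommGroup A :=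
    { (inferInstance : Group A) with mul_comm := fun a b => Subtype.ext (T.commute b.2 a) }
  let act : T.onA.range → Additive A → Additive A := fun k u => Additive.ofMul ((k : MulAut A) u.toMul)
  obtain ⟨d₀, -⟩ : ∃ d₀ : D, True := ⟨1, trivial⟩
  obtain ⟨L, iL, iLf, iLc, e, g, heg⟩ := Suzuki2.exists_field act (fun u => rfl) (fun k l u => rfl)
    (fun k u v => by
      show Additive.ofMul ((k : MulAut A) (u.toMul * v.toMul)) = _
      rw [map_mul]; rfl)
    (fun u => Additive.toMul.injective (Subtype.ext (T.sq_one _ u.toMul.2)))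
    (fun k l => by
      obtain ⟨c, hc⟩ := k.2
      obtain ⟨d, hd⟩ := l.2
      exact Subtype.ext (by rw [Subgroup.coe_mul, Subgroup.coe_mul, ← hc, ← hd, ← map_mul, mul_comm, map_mul]))
    (fun u w hu hw => by
      have h1 : ∀ u : Additive A, u ≠ 0 → (u.toMul : P) ≠ 1 := fun u hu h =>
        hu (Additive.toMul.injective (Subtype.ext h))
      have horb : ∀ u w : Additive A, u ≠ 0 → w ≠ 0 → ∃ k, act k u = w := fun u w hu hw => by
        obtain ⟨x, hx⟩ := T.sq_onto _ u.toMul.2 (h1 u hu)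
        obtain ⟨y, hy⟩ := T.sq_onto _ w.toMul.2 (h1 w hw)
        have hxA : x ∉ A := fun h => h1 u hu (by rw [← hx, T.sq_one x h])
        have hyA : y ∉ A := fun h => h1 w hw (by rw [← hy, T.sq_one y h])
        obtain ⟨d, hd⟩ := T.transitive x y hxA hyA
        refine ⟨⟨T.onA d, d, rfl⟩, Additive.toMul.injective (Subtype.ext ?_)⟩
        show φ d (u.toMul : P) = w.toMul
        rw [← hx, ← hy, map_mul]
        obtain ⟨a, ha, e1⟩ : ∃ a ∈ A, y = φ d x * a := ⟨_, hd, (mul_inv_cancel_left _ _).symm⟩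
        rw [e1, show φ d x * a * (φ d x * a) = φ d x * (a * φ d x) * a by group, ← T.commute ha,
          show φ d x * (φ d x * a) * a = φ d x * φ d x * (a * a) by group, T.sq_one a ha, mul_one]
      obtain ⟨k, hk⟩ := horb u w hu hw
      refine ⟨k, hk, fun l hl => ?_⟩
      refine Subtype.ext (MulEquiv.ext fun c => ?_)
      by_cases hc : Additive.ofMul c = 0
      · rw [show c = 1 from congrArg Additive.toMul hc, map_one, map_one]
      obtain ⟨m, hm⟩ := horb u (Additive.ofMul c) hu hc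
      obtain ⟨dk, hdk⟩ := k.2
      obtain ⟨dl, hdl⟩ := l.2
      obtain ⟨dm, hdm⟩ := m.2
      have hcm : c = (m : MulAut A) u.toMul := (congrArg Additive.toMul hm).symm
      have hkl : (l : MulAut A) u.toMul = (k : MulAut A) u.toMul :=
        congrArg Additive.toMul (hl.trans hk.symm)
      rw [hcm, ← hdm, ← hdk, ← hdl, ← MulAut.mul_apply, ← MulAut.mul_apply, ← map_mul, ← map_mul,
        mul_comm dl, mul_comm dk, map_mul, map_mul, MulAut.mul_apply, MulAut.mul_apply, hdl, hdk, hkl])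
    (by
      haveI : Nontrivial A := Finite.one_lt_card_iff_nontrivial.1 (by rw [T.card_A]; exact hq)
      exact exists_ne 0)
  haveI : Fintype (Hermitian.fixed C.σ) := Fintype.ofFinite _
  have hL : Fintype.card L = Fintype.card (Hermitian.fixed C.σ) := by
    rw [← Nat.card_eq_fintype_card, ← Nat.card_eq_fintype_card, C.hq, ← Nat.card_congr e.toEquiv]
    exact T.card_A
  let ι : L ≃+* Hermitian.fixed C.σ := FiniteField.ringEquivOfCardEq (K := L) (K' := Hermitian.fixed C.σ) hL
  let η : P → F := fun x => if hx : x ∈ A then (ι (e (Additive.ofMul ⟨x, hx⟩)) : F) else 0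
  have hη : ∀ a : A, η a = (ι (e (Additive.ofMul a)) : F) := fun a => by simp [η, a.2]
  refine ⟨η, fun d => (ι (g ⟨T.onA d, d, rfl⟩ : L) : F), fun a ha b hb => ?_, fun a ha => ?_,
    fun a ha h => ?_, fun d a ha => ?_, fun r hr => ?_⟩
  · rw [hη ⟨a, ha⟩, hη ⟨b, hb⟩, show a * b = ((⟨a, ha⟩ * ⟨b, hb⟩ : A) : P) from rfl, hη, ofMul_mul, map_add,
      map_add]
    rfl
  · rw [hη ⟨a, ha⟩]; exact (ι (e (Additive.ofMul (⟨a, ha⟩ : A)))).2
  · rw [hη ⟨a, ha⟩] at h
    have h1 : ι (e (Additive.ofMul (⟨a, ha⟩ : A))) = 0 := Subtype.ext h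
    rw [map_eq_zero_iff _ ι.injective, map_eq_zero_iff _ e.injective] at h1
    exact congrArg Subtype.val (congrArg Additive.toMul h1)
  · rw [hη ⟨a, ha⟩, show φ d a = ((T.onA d ⟨a, ha⟩ : A) : P) from rfl, hη]
    show ((ι (e (act ⟨T.onA d, d, rfl⟩ (Additive.ofMul ⟨a, ha⟩))) : Hermitian.fixed C.σ) : F) = _
    rw [heg, map_mul]; rfl
  · obtain ⟨u, hu⟩ := e.surjective (ι.symm ⟨r, hr⟩)
    refine ⟨_, u.toMul.2, ?_⟩
    rw [hη, ofMul_toMul, hu, ι.apply_symm_apply]

/-- The norm form: squares, read in adapted coordinates of the involutions, are norms. -/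
theorem TorusData.exists_norm_coord (T : TorusData φ A q) (hq : 1 < q) (C : Ctx F q) (h2 : (2 : F) = 0)
    {κ : P → F} {g : D ≃* Fˣ} (hκm : ∀ x y, κ (x * y) = κ x + κ y) (hκ0 : ∀ x, κ x = 0 ↔ x ∈ A)
    (hκs : Function.Surjective κ) (hκd : ∀ d x, κ (φ d x) = (g d : F) * κ x) :
    ∃ ζ : P → F, (∀ a ∈ A, ∀ b ∈ A, ζ (a * b) = ζ a + ζ b) ∧ (∀ a ∈ A, C.σ (ζ a) = ζ a) ∧
      (∀ a ∈ A, ζ a = 0 → a = 1) ∧ (∀ r : F, C.σ r = r → ∃ a ∈ A, ζ a = r) ∧
      (∀ x, ζ (x * x) = κ x * C.σ (κ x)) ∧
      ∀ d, ∀ a ∈ A, ζ (φ d a) = (g d : F) * C.σ (g d : F) * ζ a := by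
  classical
  haveI : CharP F 2 := CharTwo.of_one_ne_zero_of_two_eq_zero one_ne_zero h2
  haveI := T.normal
  obtain ⟨η, χ, hηm, hηf, hη0, hηd, hηs⟩ := T.exists_inv_coord hq C
  have hη1 : η 1 = 0 := by
    have := hηm 1 (one_mem _) 1 (one_mem _); rw [one_mul] at this; exact left_eq_add.1 this
  -- commutators
  let k : P → P → P := fun u v => (u * v)⁻¹ * (v * u)
  have hk : ∀ u v, v * u = u * v * k u v := fun u v => (mul_inv_cancel_left _ _).symm
  have hkA : ∀ u v, k u v ∈ A := fun u v => (hκ0 _).1 (by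
    have h := congrArg κ (hk u v)
    rw [hκm, hκm, hκm u v, add_comm (κ v)] at h
    exact left_eq_add.1 h)
  have hsame : ∀ {x y}, κ x = κ y → ∃ a ∈ A, y = x * a := fun {x y} h =>
    ⟨x⁻¹ * y, (hκ0 _).1 (by
      have e := hκm x (x⁻¹ * y)
      rw [mul_inv_cancel_left, ← h] at e
      exact left_eq_add.1 e), (mul_inv_cancel_left x y).symm⟩
  have hsq : ∀ {x y}, κ x = κ y → x * x = y * y := fun {x y} h => by
    obtain ⟨a, ha, rfl⟩ := hsame h
    rw [show x * a * (x * a) = x * (a * x) * a by group, ← T.commute ha,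
      show x * (x * a) * a = x * x * (a * a) by group, T.sq_one a ha, mul_one]
  have hks : ∀ {u u' v}, κ u = κ u' → k u v = k u' v := fun {u u' v} h => by
    obtain ⟨a, ha, rfl⟩ := hsame h
    show (u * v)⁻¹ * (v * u) = (u * a * v)⁻¹ * (v * (u * a))
    rw [mul_assoc u a v, ← T.commute ha v, ← mul_assoc u v a, ← mul_assoc v u a, T.commute ha (u * v),
      T.commute ha (v * u), mul_inv_rev]
    group
  let sec : F → P := fun y => (hκs y).choose
  have hsec : ∀ y, κ (sec y) = y := fun y => (hκs y).choose_spec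
  set c₀ := η (sec 1 * sec 1) with hc₀
  have hc0 : c₀ ≠ 0 := fun h => by
    have h1 := hη0 _ (T.sq_mem _) h
    have hA : sec 1 ∈ A := by
      by_contra hA
      obtain ⟨a, ha, hne⟩ : ∃ a ∈ A, a ≠ (1 : P) := by
        obtain ⟨a, ha⟩ := Finite.one_lt_card_iff_nontrivial.1 (T.card_A.symm ▸ hq : 1 < Nat.card A) |>
          fun h => @exists_ne _ h 1
        exact ⟨a, a.2, fun h => ha (Subtype.ext h)⟩
      obtain ⟨x, hx⟩ := T.sq_onto a ha hne
      obtain ⟨d, hd⟩ := T.transitive _ x hA (fun hxA => hne (by rw [← hx, T.sq_one x hxA]))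
      have : κ x = κ (φ d (sec 1)) := by
        obtain ⟨a', ha', rfl⟩ : ∃ a' ∈ A, x = φ d (sec 1) * a' := ⟨_, hd, (mul_inv_cancel_left _ _).symm⟩
        rw [hκm, (hκ0 a').2 ha', add_zero]
      rw [hsq this, ← map_mul, h1, map_one] at hx
      exact hne hx.symm
    have := (hκ0 _).2 hA
    rw [hsec] at this
    exact one_ne_zero this
  let R0 : F → F := fun y => η (sec y * sec y) / c₀
  have hR0 : ∀ x, R0 (κ x) = η (x * x) / c₀ := fun x => by rw [← hsq (show κ (sec (κ x)) = κ x from hsec _)]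
  have hR1 : R0 1 = 1 := div_self hc0
  have hscale : ∀ d y, R0 ((g d : F) * y) = χ d * R0 y := fun d y => by
    rw [← hsec y, ← hκd, hR0, hR0, ← map_mul, hηd _ _ (T.sq_mem _)]; ring
  have hchi : ∀ d, R0 (g d : F) = χ d := fun d => by
    have := hscale d 1; rwa [mul_one, hR1, mul_one] at this
  have hR00 : R0 0 = 0 := by
    have := hR0 1
    rwa [(hκ0 1).2 (one_mem _), one_mul, hη1, zero_div] at this
  let R : F →* F :=
    { toFun := R0
      map_one' := hR1
      map_mul' := fun x y => by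
        by_cases hx : x = 0
        · rw [hx, zero_mul, hR00, zero_mul]
        obtain ⟨d, hd⟩ := g.surjective (Units.mk0 x hx)
        have hd' : (g d : F) = x := by rw [hd, Units.val_mk0]
        rw [← hd', hscale, hchi] }
  have hkη : ∀ u u' v, k (u * u') v = k u v * k u' v := fun u u' v => by
    refine mul_left_cancel (a := u * u' * v) ?_
    rw [← hk (u * u') v, ← mul_assoc v, hk u v, mul_assoc (u * v), ← T.commute (hkA u v), ← mul_assoc,
      mul_assoc u v u', hk u' v, ← T.commute (hkA u v) (k u' v)]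
    simp only [mul_assoc]
  have hexp : ∀ u v, η (u * v * (u * v)) = η (u * u) + η (v * v) + η (k u v) := fun u v => by
    have e : u * v * (u * v) = u * u * (v * v) * k u v := by
      rw [show u * v * (u * v) = u * (v * u) * v by group, hk u v,
        show u * (u * v * k u v) * v = u * (u * v) * (k u v * v) by group, ← T.commute (hkA u v)]
      group
    rw [e, hηm _ (mul_mem (T.sq_mem u) (T.sq_mem v)) _ (hkA u v), hηm _ (T.sq_mem u) _ (T.sq_mem v)]
  let B1 : F → F → F := fun x y => η (k (sec x) (sec y)) / c₀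
  have hB1 : ∀ x y, R0 (x + y) = R0 x + R0 y + B1 x y := fun x y => by
    have hh : x + y = κ (sec x * sec y) := by rw [hκm, hsec, hsec]
    rw [hh, hR0, hexp]
    show _ = η (sec x * sec x) / c₀ + η (sec y * sec y) / c₀ + η (k (sec x) (sec y)) / c₀
    ring
  have hBsym : ∀ x y, B1 x y = B1 y x := fun x y => by
    have h1 := hB1 x y
    have h2' := hB1 y x
    rw [add_comm y x] at h2'
    linear_combination h2' - h1
  have hBadd : ∀ x x' y, B1 (x + x') y = B1 x y + B1 x' y := fun x x' y => by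
    show η _ / c₀ = η _ / c₀ + η _ / c₀
    rw [hks (show κ (sec (x + x')) = κ (sec x * sec x') by rw [hκm, hsec, hsec, hsec]), hkη,
      hηm _ (hkA _ _) _ (hkA _ _), add_div]
  let B : F →+ F →+ F := AddMonoidHom.mk' (fun x => AddMonoidHom.mk' (B1 x) fun y y' => by
      rw [hBsym, hBadd, hBsym y, hBsym y'])
    fun x x' => AddMonoidHom.ext (hBadd x x')
  obtain ⟨θ₁, θ₂, hθ⟩ := Suzuki2.quad_monomial R hR00 B hB1
  let σe : F ≃+* F := RingEquiv.ofBijective C.σ
    ⟨fun a b h => by rw [← C.hinv a, h, C.hinv], fun a => ⟨C.σ a, C.hinv a⟩⟩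
  have hRf : ∀ y, C.σ (R0 y) = R0 y := fun y => by
    show C.σ (η _ / c₀) = η _ / c₀
    rw [map_div₀, hηf _ (T.sq_mem _), hc₀, hηf _ (T.sq_mem _)]
  have hθσ : ∀ x, θ₂ x = C.σ (θ₁ x) := by
    rcases Suzuki2.two_products (a := θ₁.trans σe) (b := θ₂.trans σe) (c := θ₁) (d := θ₂) (fun x => by
      show C.σ (θ₁ x) * C.σ (θ₂ x) = θ₁ x * θ₂ x
      rw [← map_mul, ← hθ x]; exact hRf x) with ⟨h1, -⟩ | ⟨h1, -⟩
    · exfalso
      refine C.hne (RingHom.ext fun y => ?_)
      obtain ⟨x, rfl⟩ := θ₁.surjective y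
      exact DFunLike.congr_fun h1 x
    · exact fun x => (DFunLike.congr_fun h1 x).symm
  have hcomm : ∀ x, C.σ (θ₁ x) = θ₁ (C.σ x) := fun x => by rw [C.hσ, C.hσ, map_pow]
  have hRN : ∀ x, R0 x = θ₁ (x * C.σ x) := fun x => by
    rw [map_mul, ← hcomm, ← hθσ]; exact hθ x
  refine ⟨fun a => θ₁.symm (η a / c₀), fun a ha b hb => ?_, fun a ha => ?_, fun a ha h => ?_, fun r hr => ?_,
    fun x => ?_, fun d a ha => ?_⟩
  · beta_reduce
    rw [hηm a ha b hb, add_div, map_add]
  · apply θ₁.injective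
    rw [← hcomm, θ₁.apply_symm_apply, map_div₀, hηf a ha, hc₀, hηf _ (T.sq_mem _)]
  · rw [map_eq_zero, div_eq_zero_iff] at h
    exact hη0 a ha (h.resolve_right hc0)
  · obtain ⟨a, ha, he⟩ := hηs (θ₁ r * c₀) (by rw [map_mul, hcomm, hr, hc₀, hηf _ (T.sq_mem _)])
    exact ⟨a, ha, by beta_reduce; rw [he, mul_div_cancel_right₀ _ hc0, θ₁.symm_apply_apply]⟩
  · beta_reduce
    rw [← hR0, hRN, θ₁.symm_apply_apply]
  · beta_reduce
    rw [hηd d a ha, mul_div_assoc, map_mul, ← hchi, hRN, θ₁.symm_apply_apply]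

section Model

variable (C : Ctx F q)

/-- The first coordinate of the root group. -/
def cA (u : rad C) : F := mat C (u : ↥(Cfsg.SU 3 F q)) 1 2

/-- The second coordinate of the root group. -/
def cB (u : rad C) : F := mat C (u : ↥(Cfsg.SU 3 F q)) 0 2

/-- The element with given coordinates. -/
def uMk {a b : F} (h : b + C.σ b + a * C.σ a = 0) : rad C := ⟨uEl C a b h, uEl_mem_rad C h⟩

theorem cA_mk {a b : F} (h : b + C.σ b + a * C.σ a = 0) : cA C (uMk C h) = a := by
  simp [cA, uMk, mat_uEl, uu]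

theorem cB_mk {a b : F} (h : b + C.σ b + a * C.σ a = 0) : cB C (uMk C h) = b := by
  simp [cB, uMk, mat_uEl, uu]

theorem exists_mk (u : rad C) :
    ∃ (h : cB C u + C.σ (cB C u) + cA C u * C.σ (cA C u) = 0), u = uMk C h := by
  obtain ⟨a, b, h, e⟩ := rad_form C u.2
  have : u = uMk C h := Subtype.ext e
  subst this
  refine ⟨by rw [cA_mk, cB_mk]; exact h, Subtype.ext (SU3Pres.uEl_ext C _ _ ?_ ?_)⟩
  · rw [cA_mk]
  · rw [cB_mk]

theorem coord_ext {u v : rad C} (hA : cA C u = cA C v) (hB : cB C u = cB C v) : u = v := by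
  obtain ⟨h, e⟩ := exists_mk C u
  obtain ⟨h', e'⟩ := exists_mk C v
  rw [e, e']
  exact Subtype.ext (SU3Pres.uEl_ext C h h' hA hB)

theorem coord_mul (u v : rad C) : cA C (u * v) = cA C u + cA C v ∧
    cB C (u * v) = cB C u + cB C v - C.σ (cA C u) * cA C v := by
  obtain ⟨a, b, h, e⟩ := rad_form C u.2
  obtain ⟨a', b', h', e'⟩ := rad_form C v.2
  have hu : u = uMk C h := Subtype.ext e
  have hv : v = uMk C h' := Subtype.ext e'
  subst hu hv
  have hm : uMk C h * uMk C h' = uMk C (SU3Pres.uEl_sum C h h') := Subtype.ext (SU3Pres.uEl_mul C h h')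
  rw [hm, cA_mk, cB_mk, cA_mk, cA_mk, cB_mk, cB_mk]
  exact ⟨rfl, rfl⟩

theorem coord_one : cA C 1 = 0 ∧ cB C 1 = 0 := by
  simp [cA, cB, mat_one]

end Model

/-- Equivariant coordinates. -/
theorem TorusData.exists_coord (T : TorusData φ A q) (hq : 1 < q) (C : Ctx F q) (h2 : (2 : F) = 0) :
    ∃ (e : P ≃* ↥(rad C)) (g : D ≃* Fˣ), (∀ x, cA C (e x) = 0 ↔ x ∈ A) ∧
      ∀ d x, cA C (e (φ d x)) = (g d : F) * cA C (e x) ∧
        cB C (e (φ d x)) = (g d : F) * C.σ (g d : F) * cB C (e x) := by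
  classical
  haveI := T.normal
  have hF : Fintype.card F = q ^ 2 := by rw [← Nat.card_eq_fintype_card]; exact card_F C
  obtain ⟨κ, g, hκm, hκ0, hκs, hκd⟩ := T.exists_quot_coord hq hF
  obtain ⟨ζ, hζm, hζf, hζ0, hζs, hζq, hζd⟩ := T.exists_norm_coord hq C h2 hκm hκ0 hκs hκd
  have hz : ∀ {r : F}, C.σ r = r → r + C.σ r + 0 * C.σ (0 : F) = 0 := fun {r} hr => by
    rw [hr]; linear_combination r * h2
  let π : P →* Multiplicative F :=
    { toFun := fun x => Multiplicative.ofAdd (κ x)
      map_one' := by rw [(hκ0 1).2 (one_mem _)]; rfl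
      map_mul' := fun x y => by rw [hκm]; rfl }
  let ρ : rad C →* Multiplicative F :=
    { toFun := fun u => Multiplicative.ofAdd (cA C u)
      map_one' := by rw [(coord_one C).1]; rfl
      map_mul' := fun u v => by rw [(coord_mul C u v).1]; rfl }
  let iR : A →* rad C :=
    { toFun := fun a => uMk C (hz (hζf a a.2))
      map_one' := coord_ext C (by rw [cA_mk, (coord_one C).1]) (by
        rw [cB_mk, (coord_one C).2]
        have := hζm 1 (one_mem _) 1 (one_mem _)
        rw [one_mul] at this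
        exact left_eq_add.1 this)
      map_mul' := fun a b => coord_ext C (by rw [cA_mk, (coord_mul C _ _).1, cA_mk, cA_mk, add_zero]) (by
        rw [cB_mk, (coord_mul C _ _).2, cB_mk, cB_mk, cA_mk, cA_mk, mul_zero, sub_zero]
        exact hζm a a.2 b b.2) }
  have hcB : ∀ u : rad C, cA C u = 0 → C.σ (cB C u) = cB C u := fun u hu => by
    obtain ⟨h, -⟩ := exists_mk C u
    rw [hu, zero_mul, add_zero] at h
    linear_combination h - cB C u * h2
  have hker : ρ.ker = iR.range := by
    refine le_antisymm (fun u hu => ?_) ?_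
    · have hu0 : cA C u = 0 := congrArg Multiplicative.toAdd (MonoidHom.mem_ker.1 hu)
      obtain ⟨a, ha, he⟩ := hζs _ (hcB u hu0)
      exact ⟨⟨a, ha⟩, coord_ext C ((cA_mk C _).trans hu0.symm) ((cB_mk C _).trans he)⟩
    · rintro _ ⟨a, rfl⟩
      exact congrArg Multiplicative.ofAdd (cA_mk C _)
  obtain ⟨e0, he0, he0A⟩ := iso_over π ρ A.subtype iR
    (fun y => ⟨(hκs y.toAdd).choose, congrArg Multiplicative.ofAdd (hκs y.toAdd).choose_spec⟩)
    (fun y => by
      obtain ⟨b, hb⟩ := Hermitian.exists_trace C.hne C.hinv (x := -(y.toAdd * C.σ y.toAdd))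
        (by rw [map_neg, map_mul, C.hinv, mul_comm])
      exact ⟨uMk C (a := y.toAdd) (b := b) (by linear_combination hb), congrArg Multiplicative.ofAdd (cA_mk C _)⟩)
    Subtype.val_injective
    (fun a b h => Subtype.ext (by
      have h1 : ζ a = ζ b := by
        have := congrArg (cB C) h
        simpa [iR, cB_mk] using this
      have h3 : ζ ((a : P) * b) = 0 := by rw [hζm a a.2 b b.2, h1]; linear_combination ζ b * h2
      have := hζ0 _ (mul_mem a.2 b.2) h3
      rw [eq_inv_of_mul_eq_one_left this, inv_eq_of_mul_eq_one_right (T.sq_one b b.2)]))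
    (by
      ext x
      rw [Subgroup.range_subtype, MonoidHom.mem_ker, ← hκ0 x]
      exact ⟨fun h => congrArg Multiplicative.toAdd h, fun h => congrArg Multiplicative.ofAdd h⟩)
    hker (by rw [Subgroup.range_subtype]; exact T.central)
    (by
      rintro _ ⟨a, rfl⟩
      refine Subgroup.mem_center_iff.2 fun u => coord_ext C ?_ ?_
      · rw [(coord_mul C _ _).1, (coord_mul C _ _).1, add_comm]
      · have h0 : cA C (iR a) = 0 := cA_mk C _
        rw [(coord_mul C _ _).2, (coord_mul C _ _).2, h0, map_zero, zero_mul, mul_zero]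
        ring)
    (fun p r h => by
      have hpr : κ p = cA C r := congrArg Multiplicative.toAdd h
      refine ⟨⟨p * p, T.sq_mem p⟩, rfl, coord_ext C ?_ ?_⟩
      · rw [(coord_mul C r r).1, show cA C (iR ⟨p * p, T.sq_mem p⟩) = 0 from cA_mk C _]
        linear_combination cA C r * h2
      · rw [(coord_mul C r r).2, show cB C (iR ⟨p * p, T.sq_mem p⟩) = ζ (p * p) from cB_mk C _, hζq, hpr]
        linear_combination (cB C r - C.σ (cA C r) * cA C r) * h2)
  have hA0 : ∀ x, cA C (e0 x) = κ x := fun x => congrArg Multiplicative.toAdd (he0 x)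
  have hBA : ∀ a ∈ A, cB C (e0 a) = ζ a := fun a ha => by
    rw [show e0 a = iR ⟨a, ha⟩ from he0A ⟨a, ha⟩]
    exact cB_mk C _
  haveI : Finite D := Finite.of_equiv _ g.symm.toEquiv
  letI := Fintype.ofFinite D
  let nn : D → F := fun d => (g d : F) * C.σ (g d : F)
  have hnn : ∀ d, nn d ≠ 0 := fun d => mul_ne_zero (g d).ne_zero ((map_ne_zero C.σ).2 (g d).ne_zero)
  have hnσ : ∀ d, C.σ (nn d) = nn d := fun d => by show C.σ (_ * _) = _; rw [map_mul, C.hinv, mul_comm]
  have hnm : ∀ d c, nn (d * c) = nn d * nn c := fun d c => by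
    show ((g (d * c) : Fˣ) : F) * _ = _
    rw [map_mul, Units.val_mul, map_mul]; ring
  let δ : D → P → F := fun d x => cB C (e0 (φ d x)) / nn d + cB C (e0 x)
  have hδf : ∀ d x, C.σ (δ d x) = δ d x := fun d x => by
    obtain ⟨h1, -⟩ := exists_mk C (e0 (φ d x))
    obtain ⟨h2', -⟩ := exists_mk C (e0 x)
    rw [hA0, hκd] at h1
    rw [hA0] at h2'
    show C.σ (_ / _ + _) = _ / _ + _
    rw [map_add, map_div₀, hnσ]
    have hd := hnn d
    simp only [map_mul] at h1
    field_simp
    linear_combination h1 + nn d * h2' - (cB C (e0 (φ d x)) + nn d * cB C (e0 x) + nn d * κ x * C.σ (κ x)) * h2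
  have hδm : ∀ d x y, δ d (x * y) = δ d x + δ d y := fun d x y => by
    show _ / _ + _ = _ / _ + _ + (_ / _ + _)
    rw [map_mul, map_mul, map_mul, (coord_mul C _ _).2, (coord_mul C _ _).2, hA0, hA0, hA0, hA0, hκd, hκd,
      map_mul]
    have hd := hnn d
    field_simp
    linear_combination -(nn d * C.σ (κ x) * κ y) * h2
  let S : P → F := fun x => ∑ d, δ d x
  have hSf : ∀ x, C.σ (S x) = S x := fun x => by
    show C.σ (∑ d, δ d x) = _
    rw [map_sum]; exact Finset.sum_congr rfl fun d _ => hδf d x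
  have hE : ∀ x, cB C (e0 x) + S x + C.σ (cB C (e0 x) + S x) + κ x * C.σ (κ x) = 0 := fun x => by
    obtain ⟨h, -⟩ := exists_mk C (e0 x)
    rw [hA0] at h
    rw [map_add, hSf]
    linear_combination h + S x * h2
  let E : P →* rad C := MonoidHom.mk' (fun x => uMk C (hE x)) fun x y => coord_ext C
    (by rw [cA_mk, (coord_mul C _ _).1, cA_mk, cA_mk, hκm])
    (by
      rw [cB_mk, (coord_mul C _ _).2, cB_mk, cB_mk, cA_mk, cA_mk, map_mul, (coord_mul C _ _).2, hA0, hA0,
        show S (x * y) = S x + S y by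
          show ∑ d, δ d (x * y) = ∑ d, δ d x + ∑ d, δ d y
          rw [← Finset.sum_add_distrib]; exact Finset.sum_congr rfl fun d _ => hδm d x y]
      ring)
  have hEA : ∀ x, cA C (E x) = κ x := fun x => cA_mk C _
  have hEinj : Function.Injective E := (injective_iff_map_eq_one E).2 fun x hx => by
    have hxA : x ∈ A := (hκ0 x).1 (by rw [← hEA, hx]; exact (coord_one C).1)
    refine hζ0 x hxA ?_
    have hS0 : S x = 0 := Finset.sum_eq_zero fun d _ => by
      show _ / _ + _ = _
      rw [hBA _ (T.map_mem d x hxA), hBA x hxA, hζd d x hxA, mul_div_cancel_left₀ _ (hnn d)]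
      linear_combination ζ x * h2
    have : cB C (E x) = cB C (e0 x) + S x := cB_mk C _
    rw [hx, (coord_one C).2, hS0, hBA x hxA, add_zero] at this
    exact this.symm
  refine ⟨MulEquiv.ofBijective E ((Nat.bijective_iff_injective_and_card _).2
    ⟨hEinj, by rw [T.card_P, card_rad]⟩), g, fun x => ?_, fun d x => ?_⟩
  · show cA C (E x) = 0 ↔ _
    rw [hEA, hκ0]
  · show cA C (E (φ d x)) = _ * cA C (E x) ∧ cB C (E (φ d x)) = _ * cB C (E x)
    rw [hEA, hEA, hκd, show cB C (E (φ d x)) = _ from cB_mk C _, show cB C (E x) = _ from cB_mk C _]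
    refine ⟨rfl, ?_⟩
    have hodd : (Fintype.card D : F) = 1 := by
      rw [Fintype.card_congr g.toEquiv, Fintype.card_units, Nat.cast_sub Fintype.card_pos,
        FiniteField.cast_card_eq_zero, Nat.cast_one]
      linear_combination (-1 : F) * h2
    have hc : ∀ c, δ c (φ d x) = nn d * (δ (c * d) x + δ d x) := fun c => by
      show _ / _ + _ = _ * (_ / _ + _ + (_ / _ + _))
      rw [map_mul, MulAut.mul_apply, hnm]
      have := hnn d
      have := hnn c
      field_simp
      linear_combination -(nn d * nn c * cB C (e0 x)) * h2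
    have hsum : S (φ d x) = nn d * (S x + δ d x) := by
      show ∑ c, δ c (φ d x) = _
      simp only [hc, ← Finset.mul_sum, Finset.sum_add_distrib, Finset.sum_const, Finset.card_univ,
        nsmul_eq_mul, hodd, one_mul]
      congr 2
      exact Fintype.sum_equiv (Equiv.mulRight d) _ _ fun c => rfl
    rw [hsum]
    show _ + nn d * (_ + (_ / _ + _)) = nn d * _
    have := hnn d
    field_simp
    linear_combination cB C (e0 (φ d x)) * h2

end Cfsg.Agent.U3Rec
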