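import Cfsg.Agent.Lib.U3Rec.Bridge
import Cfsg.Agent.Lib.RankOne.Involutions
import Mathlib.FieldTheory.Finite.GaloisField

/-!
The group generated by `Q` and `t` is normal of odd index; the fields with `q²` elements.
-/

set_option autoImplicit false
set_option linter.unusedSectionVars false

namespace Cfsg.Agent.U3Rec

open MulAction

variable {G Ω : Type*} [Group G] [Finite G] [MulAction G Ω] {a : Ω} {t : G} {Q : Subgroup G}

/-- The group generated by the regular subgroup and `t` is transitive. -/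
theorem exists_sup_smul (hS : Cfsg.IsRankOneSetup G Ω a t Q) (c : Ω) :
    ∃ l ∈ Q ⊔ Subgroup.zpowers t, l • a = c := by
  by_cases hc : c = a
  · exact ⟨1, one_mem _, by rw [one_smul, hc]⟩
  · obtain ⟨x, hx, hxc⟩ := RankOne.exists_q_smul hS hc
    exact ⟨x * t, mul_mem (Subgroup.mem_sup_left hx) (Subgroup.mem_sup_right (Subgroup.mem_zpowers t)), by
      rw [mul_smul, hxc]⟩

/-- It contains every involution. -/
theorem invol_mem_sup (hS : Cfsg.IsRankOneSetup G Ω a t Q) {u : G} (hu : RankOne.IsInvol u) :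
    u ∈ Q ⊔ Subgroup.zpowers t := by
  obtain ⟨p, hp, -⟩ := RankOne.existsUnique_fixed hS hu
  obtain ⟨l, hl, hla⟩ := exists_sup_smul hS p
  have h1 : RankOne.IsInvol (l⁻¹ * u * l) := by simpa using hu.conj l⁻¹
  have h2 : l⁻¹ * u * l ∈ stabilizer G a := by
    rw [mem_stabilizer_iff, mul_smul, mul_smul, hla, hp, ← hla, inv_smul_smul]
  have h3 : l * (l⁻¹ * u * l) * l⁻¹ ∈ Q ⊔ Subgroup.zpowers t :=
    mul_mem (mul_mem hl (Subgroup.mem_sup_left (RankOne.invol_mem_Q hS h1 h2))) (inv_mem hl)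
  simpa [mul_assoc] using h3

/-- It is normal. -/
theorem sup_normal (hS : Cfsg.IsRankOneSetup G Ω a t Q) : (Q ⊔ Subgroup.zpowers t).Normal := by
  set L := Q ⊔ Subgroup.zpowers t
  have hB : ∀ b ∈ stabilizer G a, ∀ x ∈ L, b * x * b⁻¹ ∈ L := fun b hb x hx => by
    have hle : L ≤ L.comap (MulAut.conj b).toMonoidHom :=
      sup_le (fun y hy => Subgroup.mem_sup_left (hS.conj_mem b hb y hy))
        (Subgroup.zpowers_le.2 (invol_mem_sup hS ((RankOne.t_invol hS).conj b)))
    exact hle hx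
  refine ⟨fun x hx g => ?_⟩
  obtain ⟨l, hl, hla⟩ := exists_sup_smul hS (g • a)
  have hb : l⁻¹ * g ∈ stabilizer G a := by
    rw [mem_stabilizer_iff, mul_smul, ← hla, inv_smul_smul]
  have h := mul_mem (mul_mem hl (hB _ hb x hx)) (inv_mem hl)
  simpa [mul_assoc] using h

/-- It has odd index. -/
theorem sup_odd_index (hS : Cfsg.IsRankOneSetup G Ω a t Q) : Odd (Q ⊔ Subgroup.zpowers t).index := by
  haveI : Fact (Nat.Prime 2) := ⟨Nat.prime_two⟩
  obtain ⟨P, hP⟩ := RankOne.sylow_le hS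
  refine Nat.not_even_iff_odd.1 fun he => P.not_dvd_index ?_
  exact (even_iff_two_dvd.1 he).trans (Subgroup.index_dvd_of_le (hP.trans le_sup_left))

/-- A field with `q²` elements and its coordinates. -/
theorem exists_field_ctx {q n : ℕ} (hn : q = 2 ^ n) (hn0 : n ≠ 0) :
    ∃ (F : Type) (_ : Field F) (_ : Fintype F), Fintype.card F = q ^ 2 ∧ (2 : F) = 0 ∧
      Nonempty (PSU3Index.Ctx F q) := by
  haveI : Fact (Nat.Prime 2) := ⟨Nat.prime_two⟩
  letI : Fintype (GaloisField 2 (n * 2)) := Fintype.ofFinite _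
  have hc : Fintype.card (GaloisField 2 (n * 2)) = q ^ 2 := by
    rw [← Nat.card_eq_fintype_card, GaloisField.card 2 (n * 2) (by omega), hn, pow_mul]
  exact ⟨_, inferInstance, inferInstance, hc, CharTwo.two_eq_zero, PSU3Index.exists_ctx hc⟩

end Cfsg.Agent.U3Rec
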