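import Cfsg.Agent.Lib.SU3Pres.Rank
import Cfsg.Agent.Lib.RankOne.Basic

/-!
Recognition of `PSU₃(q)` from a split rank-one action whose regular subgroup and whose Weyl element act as
in the action of `SU₃(q)` on the isotropic lines.
-/

set_option autoImplicit false
set_option linter.unusedSectionVars false

namespace Cfsg.Agent.U3Rec

open PSU3Index MulAction
open Cfsg.Agent.SU3Root (uu ww dd)
open SU3Pres (dH)

variable {F : Type*} [Field F] [Fintype F] {q : ℕ} (C : Ctx F q)

/-- The second base point. -/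
def opp : Pt C := wEl C • base C

theorem w_opp : wEl C • opp C = base C := by rw [opp, smul_smul, wEl_sq, one_smul]

theorem opp_ne : opp C ≠ base C := fun h => wEl_not_mem C ((smul_base_eq_iff C).1 h)

/-- The points as the regular subgroup and one more point. -/
def toPt : Option ↥(rad C) → Pt C
  | none => base C
  | some u => (u : ↥(Cfsg.SU 3 F q)) • opp C

theorem toPt_bijective : Function.Bijective (toPt C) := by
  have h0 : ∀ u : rad C, (u : ↥(Cfsg.SU 3 F q)) • opp C ≠ base C := fun u h => opp_ne C (by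
    rw [eq_inv_smul_iff.2 h, (smul_base_eq_iff C).2 (inv_mem u.2.1)])
  have hinj : Function.Injective (toPt C) := by
    rintro (- | u) (- | v) h
    · rfl
    · exact absurd h.symm (h0 v)
    · exact absurd h (h0 u)
    · refine congrArg some (Subtype.ext ?_)
      have h1 : ((v⁻¹ * u : rad C) : ↥(Cfsg.SU 3 F q)) • opp C = opp C := by
        rw [Subgroup.coe_mul, Subgroup.coe_inv, mul_smul, inv_smul_eq_iff]
        exact h
      have h2 := rad_eq_one C (v⁻¹ * u).2 (opp_ne C) h1
      rw [Subgroup.coe_mul, Subgroup.coe_inv, inv_mul_eq_one] at h2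
      exact h2.symm
  refine hinj.bijective_of_nat_card_le ?_
  rw [card_pt, Finite.card_option, card_rad]

/-- The action on the points. -/
def rho : ↥(Cfsg.SU 3 F q) →* Equiv.Perm (Pt C) := MulAction.toPermHom _ _

/-- `SU₃(q)` is generated by a root group and the Weyl element. -/
theorem rad_sup_w : rad C ⊔ Subgroup.zpowers (wEl C) = ⊤ := by
  set H := rad C ⊔ Subgroup.zpowers (wEl C) with hH
  have hu : ∀ {u : ↥(Cfsg.SU 3 F q)}, u ∈ rad C → u ∈ H := fun hu => Subgroup.mem_sup_left hu
  have hw : wEl C ∈ H := Subgroup.mem_sup_right (Subgroup.mem_zpowers _)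
  have hd : ∀ l : Fˣ, dH C l ∈ H := by
    intro l
    have hf : C.σ (-((l : F) + C.σ (l : F))) = -((l : F) + C.σ (l : F)) := by
      rw [map_neg, map_add, C.hinv, add_comm]
    obtain ⟨a, ha⟩ := Hermitian.exists_norm C.hne C.hinv hf
    have h : (l : F) + C.σ (l : F) + a * C.σ a = 0 := by rw [ha]; ring
    have e := SU3Pres.w_uEl_w C h l.ne_zero
    rw [Units.mk0_val] at e
    have e' : dH C l = (uEl C (-a / (l : F)) (l : F)⁻¹ (SU3Pres.left_eq C h l.ne_zero) * wEl C)⁻¹ *
        (wEl C * uEl C a (l : F) h * wEl C) *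
          (uEl C (-a / C.σ (l : F)) (l : F)⁻¹ (SU3Pres.right_eq C h l.ne_zero))⁻¹ := by
      rw [e]; group
    rw [e']
    exact mul_mem (mul_mem (inv_mem (mul_mem (hu (uEl_mem_rad C _)) hw))
      (mul_mem (mul_mem hw (hu (uEl_mem_rad C _))) hw)) (inv_mem (hu (uEl_mem_rad C _)))
  have hb : borel C ≤ H := fun g hg => by
    obtain ⟨a, b, l, hl, h, e, -⟩ := borel_form C hg
    rw [e, SU3Pres.dEl_eq C hl]
    exact mul_mem (hu (uEl_mem_rad C h)) (hd _)
  refine eq_top_iff.2 fun g _ => ?_
  by_cases hg : g ∈ borel C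
  · exact hb hg
  obtain ⟨a, b, h, hk⟩ := bruhat C hg
  have := mul_mem (mul_mem (hu (uEl_mem_rad C h)) hw) (hb hk)
  simpa [mul_assoc] using this

/-- The kernel of the action is the centre. -/
theorem ker_rho : (rho C).ker = Subgroup.center ↥(Cfsg.SU 3 F q) := by
  refine le_antisymm (fun g hg => ?_) fun z hz => ?_
  · have hfix : ∀ x : Pt C, g • x = x := fun x => Equiv.ext_iff.1 (MonoidHom.mem_ker.1 hg) x
    obtain ⟨a, b, l, hl, h, e, -⟩ := borel_form C ((smul_base_eq_iff C).1 (hfix _))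
    rw [SU3Pres.dEl_eq C hl] at e
    set L : Fˣ := Units.mk0 l hl
    have hop : dH C L • opp C = opp C := by
      obtain ⟨hsl, -⟩ : C.σ l ≠ 0 ∧ True := ⟨(map_ne_zero C.σ).2 hl, trivial⟩
      rw [opp, smul_smul, smul_base_eq_smul C,
        show (dH C L * wEl C)⁻¹ * wEl C = (wEl C)⁻¹ * (dH C L)⁻¹ * wEl C by group,
        inv_eq_of_mul_eq_one_right (wEl_sq C), ← map_inv, SU3Pres.w_dH_w]
      exact dEl_mem C _
    have hu : uEl C a b h = 1 := rad_eq_one C (uEl_mem_rad C h) (opp_ne C) (by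
      have := hfix (opp C)
      rwa [e, mul_smul, hop] at this)
    rw [hu, one_mul] at e
    obtain ⟨c, hc⟩ := SU3Pres.exists_b1 C
    have h1 := hfix (uEl C 1 c hc • opp C)
    rw [e, smul_smul, show dH C L * uEl C 1 c hc = dH C L * uEl C 1 c hc * (dH C L)⁻¹ * dH C L by group,
      SU3Pres.dH_conj, mul_smul, hop] at h1
    have h2 := toPt_bijective C |>.1 (a₁ := some ⟨_, uEl_mem_rad C _⟩) (a₂ := some ⟨_, uEl_mem_rad C _⟩) h1
    have h3 := congrArg (mat C) (congrArg Subtype.val (Option.some.inj h2))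
    rw [mat_uEl, mat_uEl] at h3
    have hmu : mu C l = 1 := by simpa [uu, L] using congrFun (congrFun h3 1) 2
    have hb : nu C l * c = c := by simpa [uu, L] using congrFun (congrFun h3 0) 2
    have hc0 : c ≠ 0 := fun h0 => by simp [h0] at hc
    have hnu : l * C.σ l = 1 := mul_right_cancel₀ hc0 (hb.trans (one_mul c).symm)
    have hsl : C.σ l ≠ 0 := (map_ne_zero C.σ).2 hl
    have hmid : C.σ l / l = l := by
      rw [mu] at hmu
      field_simp at hmu ⊢
      exact mul_right_cancel₀ hsl (by linear_combination hmu - l * hnu)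
    have hlast : (C.σ l)⁻¹ = l := inv_eq_of_mul_eq_one_left hnu
    have hmat : mat C g = Matrix.diagonal fun _ => l := by
      rw [e, SU3Pres.dH_apply, mat_dEl]
      ext i k
      fin_cases i <;> fin_cases k <;> simp [dd, L, hmid, hlast]
    refine Subgroup.mem_center_iff.2 fun x => mat_inj C ?_
    rw [mat_mul, mat_mul, hmat, ← Matrix.scalar_apply]
    exact ((Matrix.scalar_commute l (Commute.all l) _).eq).symm
  · refine MonoidHom.mem_ker.2 (Equiv.ext fun x => ?_)
    obtain ⟨y, rfl⟩ := exists_smul_base C x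
    show z • y • base C = y • base C
    rw [smul_smul, ← Subgroup.mem_center_iff.1 hz, mul_smul,
      (smul_base_eq_iff C).2 (center_le_borel C hz)]

/-- The Weyl element on a root point. -/
theorem w_point {a b : F} (h : b + C.σ b + a * C.σ a = 0) (hb : b ≠ 0) :
    wEl C • uEl C a b h • opp C = uEl C (-a / b) b⁻¹ (SU3Pres.left_eq C h hb) • opp C := by
  rw [opp, smul_smul, smul_smul, SU3Pres.w_uEl_w C h hb, mul_smul, mul_smul,
    (smul_base_eq_iff C).2 (mul_mem (SU3Pres.dH_mem C _) (uEl_mem C _))]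

variable {C}
variable {G Ω : Type*} [Group G] [Finite G] [MulAction G Ω] [FaithfulSMul G Ω] {a : Ω} {t : G} {Q : Subgroup G}

/-- The recognition theorem: the action of `t` on the regular orbit of `Q` is the only datum. -/
theorem recog (hS : Cfsg.IsRankOneSetup G Ω a t Q) (e : ↥Q ≃* ↥(rad C))
    (hg : ∀ x y : Q, x ≠ 1 → t • (x : G) • t • a = (y : G) • t • a →
      wEl C • (e x : ↥(Cfsg.SU 3 F q)) • opp C = (e y : ↥(Cfsg.SU 3 F q)) • opp C) :
    Nonempty (↥(Q ⊔ Subgroup.zpowers t) ≃* Cfsg.PSU 3 F q) := by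
  classical
  have htt : t • t • a = a := by rw [smul_smul, hS.mul_self, one_smul]
  let f : Option ↥Q → Ω := fun o => o.elim a fun x => (x : G) • t • a
  have hne : ∀ x : Q, (x : G) • t • a ≠ a := fun x h => RankOne.ta_ne hS (by
    rw [eq_inv_smul_iff.2 h, RankOne.smul_a hS (inv_mem x.2)])
  have hf : Function.Bijective f := by
    refine ⟨?_, fun c => ?_⟩
    · rintro (- | x) (- | y) h
      · rfl
      · exact absurd h.symm (hne y)
      · exact absurd h (hne x)
      · exact congrArg some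
          ((RankOne.existsUnique_smul hS (RankOne.ta_ne hS) (hne y)).unique h rfl)
    · by_cases hc : c = a
      · exact ⟨none, hc.symm⟩
      · obtain ⟨x, hx, h⟩ := RankOne.exists_q_smul hS hc
        exact ⟨some ⟨x, hx⟩, h⟩
  let E : Ω ≃ Pt C :=
    (Equiv.ofBijective f hf).symm.trans (e.toEquiv.optionCongr.trans (Equiv.ofBijective _ (toPt_bijective C)))
  have hE : ∀ x : Q, E ((x : G) • t • a) = (e x : ↥(Cfsg.SU 3 F q)) • opp C := fun x => by
    have : (Equiv.ofBijective f hf).symm ((x : G) • t • a) = some x :=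
      (Equiv.symm_apply_eq _).2 rfl
    simp [E, this, toPt]
  have hEa : E a = base C := by
    have : (Equiv.ofBijective f hf).symm a = none := (Equiv.symm_apply_eq _).2 rfl
    simp [E, this, toPt]
  have hEt : E (t • a) = opp C := by simpa using hE 1
  let R : G →* Equiv.Perm (Pt C) := E.permCongrHom.toMonoidHom.comp (MulAction.toPermHom G Ω)
  have hR : ∀ g c, R g (E c) = E (g • c) := fun g c => by
    simp [R, Equiv.permCongrHom, Equiv.permCongr_apply]
  have hRinj : Function.Injective R :=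
    E.permCongrHom.injective.comp MulAction.toPerm_injective
  have hQ : ∀ x : Q, R x = rho C (e x : ↥(Cfsg.SU 3 F q)) := fun x => Equiv.ext fun c => by
    obtain ⟨c, rfl⟩ := E.surjective c
    rw [hR]
    by_cases hc : c = a
    · rw [hc, RankOne.smul_a hS x.2, hEa]
      exact ((smul_base_eq_iff C).2 (e x).2.1).symm
    · obtain ⟨y, hy, rfl⟩ := RankOne.exists_q_smul hS hc
      rw [smul_smul, show (x : G) * y = ((x * ⟨y, hy⟩ : Q) : G) from rfl, hE,
        show E (y • t • a) = _ from hE ⟨y, hy⟩, map_mul, Subgroup.coe_mul, mul_smul]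
      rfl
  have ht : R t = rho C (wEl C) := Equiv.ext fun c => by
    obtain ⟨c, rfl⟩ := E.surjective c
    rw [hR]
    show _ = wEl C • E c
    by_cases hc : c = a
    · rw [hc, hEt, hEa, opp]
    obtain ⟨y, hy, rfl⟩ := RankOne.exists_q_smul hS hc
    by_cases hy1 : y = 1
    · rw [hy1, one_smul, htt, hEa, hEt, w_opp]
    have hca : t • y • t • a ≠ a := fun h => hy1 (by
      by_contra hne'
      exact RankOne.ta_ne hS (RankOne.eq_a_of_fixed hS hy hne'
        ((smul_eq_iff_eq_inv_smul _).1 h |>.trans (by rw [RankOne.inv_t hS]))))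
    obtain ⟨z, hz, hzc⟩ := RankOne.exists_q_smul hS hca
    rw [← hzc, show E (z • t • a) = _ from hE ⟨z, hz⟩, show E (y • t • a) = _ from hE ⟨y, hy⟩]
    exact (hg ⟨y, hy⟩ ⟨z, hz⟩ (fun h => hy1 (congrArg Subtype.val h)) hzc.symm).symm
  have hmap : (Q ⊔ Subgroup.zpowers t).map R = (rho C).range := by
    rw [MonoidHom.range_eq_map, ← rad_sup_w C, Subgroup.map_sup, Subgroup.map_sup, MonoidHom.map_zpowers,
      MonoidHom.map_zpowers, ht]
    congr 1
    ext p
    simp only [Subgroup.mem_map]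
    exact ⟨fun ⟨x, hx, h⟩ => ⟨_, (e ⟨x, hx⟩).2, (hQ ⟨x, hx⟩).symm.trans h⟩,
      fun ⟨u, hu, h⟩ => ⟨_, (e.symm ⟨u, hu⟩).2, by rw [hQ, MulEquiv.apply_symm_apply]; exact h⟩⟩
  exact ⟨((Subgroup.equivMapOfInjective _ R hRinj).trans (MulEquiv.subgroupCongr hmap)).trans
    ((QuotientGroup.quotientKerEquivRange (rho C)).symm.trans
      (QuotientGroup.quotientMulEquivOfEq (ker_rho C)))⟩

end Cfsg.Agent.U3Rec
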