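import Cfsg.Agent.Lib.U3Rec.Bridge
import Cfsg.Agent.Lib.RankOne.SmallQCases

/-!
The coordinates of a rank-one setup of unitary type with full torus, from group data: the orders of `Q`, of
the two-point stabiliser and of its part centralising `t`, and freeness on the non-central part of `Q`.
-/

set_option autoImplicit false
set_option linter.unusedSectionVars false

namespace Cfsg.Agent.U3Rec

open PSU3Index MulAction
open RankOne (twoStab invSub invK)

universe u

variable {G : Type u} {Ω : Type*} [Group G] [Finite G] [MulAction G Ω] {a : Ω} {t : G} {Q : Subgroup G}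

/-- Group data of unitary type with full torus. -/
structure FullData (hS : Cfsg.IsRankOneSetup G Ω a t Q)
    (h2 : ∃ x y : G, x ≠ 1 ∧ y ≠ 1 ∧ x ≠ y ∧ x * x = 1 ∧ y * y = 1 ∧ x * y = y * x) (q : ℕ) : Prop where
  two : IsPGroup 2 Q
  card_Q : Nat.card Q = q ^ 3
  card_A : Nat.card (invSub hS h2) = q
  comm : ∀ d ∈ twoStab a t, ∀ d' ∈ twoStab a t, d * d' = d' * d
  card_D : Nat.card (twoStab a t) = q ^ 2 - 1
  card_V : Nat.card ↥(twoStab a t ⊓ Subgroup.centralizer {t}) = q + 1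
  fix : ∀ d ∈ twoStab a t, d ≠ 1 → ∀ x ∈ Q, d * x * d⁻¹ = x → x ∈ invSub hS h2

/-- An element of odd order fixing a coset of a central elementary abelian subgroup fixes one of its elements. -/
theorem exists_fixed_in_coset {P : Type*} [Group P] (A : Subgroup P) (hA : A ≤ Subgroup.center P)
    (hsq : ∀ c ∈ A, c * c = 1) (f : MulAut P) (hf : ∀ c ∈ A, f c ∈ A) {m : ℕ} (hm : Odd m) (hfm : f ^ m = 1)
    {x : P} (hx : x⁻¹ * f x ∈ A) : ∃ b ∈ A, f (x * b) = x * b := by
  obtain ⟨c1, hc1⟩ : ∃ c1, c1 = x⁻¹ * f x := ⟨_, rfl⟩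
  have hc1A : c1 ∈ A := hc1 ▸ hx
  have hfx : f x = x * c1 := by rw [hc1, mul_inv_cancel_left]
  have hcm : ∀ {c}, c ∈ A → ∀ z : P, z * c = c * z := fun hc z => Subgroup.mem_center_iff.1 (hA hc) z
  let c : ℕ → P := fun i => x⁻¹ * (f ^ i) x
  have hrec : ∀ i, c (i + 1) = c1 * f (c i) := fun i => by
    show x⁻¹ * (f ^ (i + 1)) x = c1 * f (x⁻¹ * (f ^ i) x)
    rw [pow_succ', MulAut.mul_apply, map_mul, map_inv, hc1]; group
  have hcA : ∀ i, c i ∈ A := fun i => by
    induction i with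
    | zero => show x⁻¹ * (f ^ 0) x ∈ A; rw [pow_zero, MulAut.one_apply, inv_mul_cancel]; exact one_mem A
    | succ i ih => rw [hrec]; exact mul_mem hc1A (hf _ ih)
  let b : ℕ → P := fun n => ((List.range n).map c).prod
  have hbA : ∀ n, b n ∈ A := fun n => A.list_prod_mem fun z hz => by
    obtain ⟨i, -, rfl⟩ := List.mem_map.1 hz
    exact hcA i
  have hb1 : ∀ n, b (n + 1) = b n * c n := fun n => by
    show ((List.range (n + 1)).map c).prod = _
    rw [List.range_succ, List.map_append, List.prod_append, List.map_singleton, List.prod_singleton]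
  have key : ∀ n, f (b n) * c1 ^ n = b n * c n := fun n => by
    induction n with
    | zero =>
      show f 1 * c1 ^ 0 = 1 * (x⁻¹ * (f ^ 0) x)
      rw [map_one, pow_zero, pow_zero, MulAut.one_apply, one_mul, one_mul, inv_mul_cancel]
    | succ n ih =>
      rw [hb1, map_mul, hrec, pow_succ, ← ih]
      calc f (b n) * f (c n) * (c1 ^ n * c1) = f (b n) * (f (c n) * c1 ^ n) * c1 := by group
        _ = f (b n) * (c1 ^ n * f (c n)) * c1 := by rw [hcm (pow_mem hc1A n)]
        _ = f (b n) * c1 ^ n * (f (c n) * c1) := by group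
        _ = _ := by rw [hcm hc1A]
  refine ⟨b m, hbA m, ?_⟩
  have hcm' : c m = 1 := by show x⁻¹ * (f ^ m) x = 1; rw [hfm, MulAut.one_apply, inv_mul_cancel]
  have hk := key m
  obtain ⟨j, rfl⟩ := hm
  rw [hcm', mul_one, pow_succ, pow_mul, pow_two c1, hsq _ hc1A, one_pow, one_mul] at hk
  rw [map_mul, hfx]
  calc x * c1 * f (b (2 * j + 1)) = x * (c1 * f (b (2 * j + 1))) := by group
    _ = x * b (2 * j + 1) := by rw [← hcm hc1A, hk]

variable {hS : Cfsg.IsRankOneSetup G Ω a t Q}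
  {h2 : ∃ x y : G, x ≠ 1 ∧ y ≠ 1 ∧ x ≠ y ∧ x * x = 1 ∧ y * y = 1 ∧ x * y = y * x} {q : ℕ}

/-- The action of the two-point stabiliser on `Q`. -/
def conjAct (hS : Cfsg.IsRankOneSetup G Ω a t Q) : ↥(twoStab a t) →* MulAut Q where
  toFun d :=
    { toFun := fun x => cq hS d.2 x
      invFun := fun x => cq hS (inv_mem d.2) x
      left_inv := fun x => Subtype.ext (by simp [cq, mul_assoc])
      right_inv := fun x => Subtype.ext (by simp [cq, mul_assoc])
      map_mul' := fun x y => Subtype.ext (by simp [cq, mul_assoc]) }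
  map_one' := MulEquiv.ext fun x => Subtype.ext (by simp [cq])
  map_mul' d d' := MulEquiv.ext fun x => Subtype.ext (by simp [cq, mul_assoc])

namespace FullData

variable (T : FullData hS h2 q)
include T

theorem two_lt : 2 < q := by
  have := RankOne.four_le hS h2
  rw [T.card_A] at this
  omega

theorem odd_orderOf {d : G} (hd : d ∈ twoStab a t) : Odd (orderOf d) :=
  RankOne.odd_orderOf hS.odd_card hd

theorem free {d : ↥(twoStab a t)} {x : Q} (hx : (x : G) ∉ invSub hS h2)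
    (h : ((((conjAct hS) d x)⁻¹ * x : Q) : G) ∈ invSub hS h2) : d = 1 := by
  by_contra hd
  set A := (invSub hS h2).subgroupOf Q with hA
  have hAc : A ≤ Subgroup.center Q := fun c hc => Subgroup.mem_center_iff.2 fun z =>
    Subtype.ext (RankOne.invSub_comm hS h2 (Subgroup.mem_subgroupOf.1 hc) z.2).symm
  have hsq : ∀ c ∈ A, c * c = 1 := fun c hc => Subtype.ext (by
    rcases Subgroup.mem_subgroupOf.1 hc with e | e
    · simp [e]
    · exact e.2.2)
  have hmap : ∀ c ∈ A, (conjAct hS) d c ∈ A := fun c hc =>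
    Subgroup.mem_subgroupOf.2 (RankOne.conj_mem_invSub hS h2 d.2 (Subgroup.mem_subgroupOf.1 hc))
  have hodd : Odd (orderOf d) := by rw [← Subgroup.orderOf_coe]; exact T.odd_orderOf d.2
  obtain ⟨b, hb, hfix⟩ := exists_fixed_in_coset A hAc hsq ((conjAct hS) d) hmap hodd
    (by rw [← map_pow, pow_orderOf_eq_one, map_one]) (x := x) (by
      have hm : (((conjAct hS) d x)⁻¹ * x)⁻¹ ∈ A := inv_mem (Subgroup.mem_subgroupOf.2 h)
      rwa [mul_inv_rev, inv_inv] at hm)
  have hfix' : (d : G) * ((x * b : Q) : G) * (d : G)⁻¹ = ((x * b : Q) : G) := congrArg Subtype.val hfix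
  have := T.fix d d.2 (fun h1 => hd (Subtype.ext h1)) _ (x * b).2 hfix'
  have h' := mul_mem this (inv_mem (Subgroup.mem_subgroupOf.1 hb))
  rw [Subgroup.coe_mul, mul_inv_cancel_right] at h'
  exact hx h'

/-- The torus data. -/
theorem torusData : letI : CommGroup ↥(twoStab a t) :=
      { (inferInstance : Group ↥(twoStab a t)) with
        mul_comm := fun d d' => Subtype.ext (T.comm d d.2 d' d'.2) }
    TorusData (conjAct hS) ((invSub hS h2).subgroupOf Q) q := by
  classical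
  letI : CommGroup ↥(twoStab a t) :=
      { (inferInstance : Group ↥(twoStab a t)) with
        mul_comm := fun d d' => Subtype.ext (T.comm d d.2 d' d'.2) }
  set A := (invSub hS h2).subgroupOf Q with hA
  have hcentral : A ≤ Subgroup.center Q := fun c hc => Subgroup.mem_center_iff.2 fun z =>
    Subtype.ext (RankOne.invSub_comm hS h2 (Subgroup.mem_subgroupOf.1 hc) z.2).symm
  haveI : A.Normal := ⟨fun c hc g => by
    rwa [Subgroup.mem_center_iff.1 (hcentral hc) g, mul_inv_cancel_right]⟩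
  have hq := T.two_lt
  have hcA : Nat.card A = q := by
    rw [Nat.card_congr (Subgroup.subgroupOfEquivOfLe fun x hx => RankOne.invSub_le_Q hS h2 hx).toEquiv]
    exact T.card_A
  have hquot : Nat.card (Q ⧸ A) = q ^ 2 := by
    have h := A.card_eq_card_quotient_mul_card_subgroup
    rw [hcA, T.card_Q, pow_succ] at h
    exact (Nat.eq_of_mul_eq_mul_right (by omega) h).symm
  haveI : Fintype (Q ⧸ A) := Fintype.ofFinite _
  have htrans : ∀ x y : Q, x ∉ A → y ∉ A → ∃ d, ((conjAct hS) d x)⁻¹ * y ∈ A := by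
    intro x y hx hy
    let f : ↥(twoStab a t) → {u : Q ⧸ A // u ≠ 1} := fun d => ⟨(((conjAct hS) d x : Q) : Q ⧸ A), fun h => hx (by
      have h' := (QuotientGroup.eq_one_iff _).1 h
      have h'' := RankOne.conj_mem_invSub hS h2 (inv_mem d.2) (Subgroup.mem_subgroupOf.1 h')
      refine Subgroup.mem_subgroupOf.2 ?_
      simpa [conjAct, cq, mul_assoc] using h'')⟩
    have hinj : Function.Injective f := fun d d' h => by
      have h' : (((conjAct hS) d x : Q) : Q ⧸ A) = (((conjAct hS) d' x : Q) : Q ⧸ A) := congrArg Subtype.val h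
      rw [QuotientGroup.eq] at h'
      refine (inv_mul_eq_one.1 (T.free (d := d'⁻¹ * d) hx ?_)).symm
      have h'' := RankOne.conj_mem_invSub hS h2 (inv_mem d'.2) (Subgroup.mem_subgroupOf.1 h')
      simpa [conjAct, cq, mul_assoc] using h''
    have hc : Nat.card {u : Q ⧸ A // u ≠ 1} = q ^ 2 - 1 := by
      rw [Nat.card_eq_fintype_card, Fintype.card_subtype_compl, Fintype.card_subtype_eq,
        ← Nat.card_eq_fintype_card, hquot]
    obtain ⟨d, hd⟩ := ((Nat.bijective_iff_injective_and_card f).2 ⟨hinj, T.card_D.trans hc.symm⟩).2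
      ⟨(y : Q ⧸ A), fun h => hy ((QuotientGroup.eq_one_iff _).1 h)⟩
    exact ⟨d, QuotientGroup.eq.1 (congrArg Subtype.val hd)⟩
  have hmap : ∀ d, ∀ c ∈ A, (conjAct hS) d c ∈ A := fun d c hc =>
    Subgroup.mem_subgroupOf.2 (RankOne.conj_mem_invSub hS h2 d.2 (Subgroup.mem_subgroupOf.1 hc))
  have hsqA : ∀ c ∈ A, c * c = 1 := fun c hc => Subtype.ext (by
    rcases Subgroup.mem_subgroupOf.1 hc with e | e
    · simp [e]
    · exact e.2.2)
  have hmem_of_sq : ∀ x : Q, x * x = 1 → x ∈ A := fun x hx => Subgroup.mem_subgroupOf.2 (by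
    by_cases h1 : (x : G) = 1
    · exact Or.inl h1
    · exact Or.inr ((RankOne.mem_involutionsIn hS).2
        ⟨⟨h1, congrArg Subtype.val hx⟩, RankOne.smul_a hS x.2⟩))
  have hsq : ∀ x : Q, x * x ∈ A := by
    intro x
    by_cases hx : x ∈ A
    · exact mul_mem hx hx
    haveI : Nontrivial (Q ⧸ A) := ⟨⟨(x : Q ⧸ A), 1, fun h => hx ((QuotientGroup.eq_one_iff x).1 h)⟩⟩
    haveI : Fact (Nat.Prime 2) := ⟨Nat.prime_two⟩
    obtain ⟨n, hn, hcn⟩ := (T.two.to_quotient A).nontrivial_iff_card.1 inferInstance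
    obtain ⟨u, hu⟩ := exists_prime_orderOf_dvd_card' 2 (show 2 ∣ Nat.card (Q ⧸ A) by
      rw [hcn]; exact dvd_pow_self 2 (by omega))
    obtain ⟨y, rfl⟩ := QuotientGroup.mk_surjective u
    have hy : y ∉ A := fun h => by
      rw [(QuotientGroup.eq_one_iff y).2 h, orderOf_one] at hu
      exact absurd hu (by norm_num)
    have hyy : y * y ∈ A := by
      rw [← QuotientGroup.eq_one_iff, QuotientGroup.mk_mul, ← pow_two, ← hu]
      exact pow_orderOf_eq_one _
    obtain ⟨d, hd⟩ := htrans y x hy hx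
    obtain ⟨c, hc, rfl⟩ : ∃ c ∈ A, x = (conjAct hS) d y * c := ⟨_, hd, (mul_inv_cancel_left _ _).symm⟩
    rw [show (conjAct hS) d y * c * ((conjAct hS) d y * c) = (conjAct hS) d y * (c * (conjAct hS) d y) * c by group,
      ← Subgroup.mem_center_iff.1 (hcentral hc), show (conjAct hS) d y * ((conjAct hS) d y * c) * c =
        (conjAct hS) d y * (conjAct hS) d y * (c * c) by group, hsqA c hc, mul_one, ← map_mul]
    exact hmap d _ hyy
  refine ⟨hcentral, hsq, hsqA, fun c hc hc1 => ?_, hmap, htrans, fun d x hx h => T.free hx h, hcA, T.card_Q⟩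
  obtain ⟨x, hx⟩ : ∃ x : Q, x ∉ A := by
    by_contra hall
    push Not at hall
    have : A = ⊤ := eq_top_iff.2 fun x _ => hall x
    rw [this, Subgroup.card_top, T.card_Q] at hcA
    nlinarith [Nat.pow_le_pow_right (show 1 ≤ q by omega) (show 2 ≤ 3 by omega)]
  have hxx : ((x * x : Q) : G) ∈ Cfsg.involutionsIn (stabilizer G a : Set G) := by
    rcases Subgroup.mem_subgroupOf.1 (hsq x) with e | e
    · exact absurd (hmem_of_sq x (Subtype.ext e)) hx
    · exact e
  have hc' : (c : G) ∈ Cfsg.involutionsIn (stabilizer G a : Set G) := by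
    rcases Subgroup.mem_subgroupOf.1 hc with e | e
    · exact absurd (Subtype.ext e) hc1
    · exact e
  obtain ⟨k, hk, hkx⟩ := RankOne.inverted_transitive hS hxx hc'
  refine ⟨(conjAct hS) ⟨k⁻¹, inv_mem hk.1⟩ x, Subtype.ext ?_⟩
  rw [← hkx]
  show k⁻¹ * (x : G) * k⁻¹⁻¹ * (k⁻¹ * (x : G) * k⁻¹⁻¹) = k⁻¹ * ((x : G) * x) * k
  group

theorem card_invK : Nat.card (invK a t) + 1 = q := by
  rw [RankOne.card_invK hS h2, T.card_A]

/-- Coordinates exist. -/
theorem exists_coords {F : Type*} [Field F] [Fintype F] (C : Ctx F q) (hF2 : (2 : F) = 0) :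
    ∃ (e : ↥Q ≃* ↥(rad C)) (μ : G → F), Coords C hS e μ := by
  classical
  letI : CommGroup ↥(twoStab a t) :=
      { (inferInstance : Group ↥(twoStab a t)) with
        mul_comm := fun d d' => Subtype.ext (T.comm d d.2 d' d'.2) }
  have hq := T.two_lt
  obtain ⟨e₀, g, heA, hact⟩ := T.torusData.exists_coord (by omega) C hF2
  obtain ⟨μ, hμdef⟩ : ∃ μ : G → F, ∀ d : ↥(twoStab a t), μ d = (g d : F) :=
    ⟨fun d => if hd : d ∈ twoStab a t then (g ⟨d, hd⟩ : F) else 1, fun d => dif_pos d.2⟩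
  have hμm : ∀ d ∈ twoStab a t, ∀ d' ∈ twoStab a t, μ (d * d') = μ d * μ d' := fun d hd d' hd' => by
    rw [hμdef ⟨d, hd⟩, hμdef ⟨d', hd'⟩, show d * d' = ((⟨d, hd⟩ * ⟨d', hd'⟩ : ↥(twoStab a t)) : G) from rfl,
      hμdef, map_mul, Units.val_mul]
  have hμi : ∀ d ∈ twoStab a t, μ d⁻¹ = (μ d)⁻¹ := fun d hd => by
    rw [hμdef ⟨d, hd⟩, show d⁻¹ = ((⟨d, hd⟩⁻¹ : ↥(twoStab a t)) : G) from rfl, hμdef, map_inv, Units.val_inv_eq_inv_val]
  have hμpow : ∀ (H : Subgroup G), H ≤ twoStab a t → ∀ d ∈ H, μ d ^ Nat.card H = 1 := fun H hH d hd => by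
    rw [hμdef ⟨d, hH hd⟩, ← Units.val_pow_eq_pow_val, ← map_pow]
    have h1 : (⟨d, hH hd⟩ : ↥(twoStab a t)) ^ Nat.card H = 1 := Subtype.ext (by
      rw [SubmonoidClass.coe_pow, OneMemClass.coe_one]
      exact (SubmonoidClass.coe_pow (⟨d, hd⟩ : H) (Nat.card H)).symm.trans
        (congrArg Subtype.val pow_card_eq_one'))
    rw [h1, map_one, Units.val_one]
  have hμ0 : ∀ d ∈ twoStab a t, μ d ≠ 0 := fun d hd => by rw [hμdef ⟨d, hd⟩]; exact (g _).ne_zero
  have hμt : ∀ d ∈ twoStab a t, μ (t * d * t) = (C.σ (μ d))⁻¹ := by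
    intro d hd
    obtain ⟨y, z, hy0, hy, hz, rfl⟩ :=
      RankOne.exists_decomp hS.mul_self hS.odd_card (fun x hx => RankOne.conj_twoStab hS hx) hd
    have hti := RankOne.inv_t hS
    rw [hti] at hy
    have hz' : t * z * t = z⁻¹ := by have := hz.2; rwa [hti] at this
    have hzD : z ∈ twoStab a t := hz.1
    have hyV : y ∈ twoStab a t ⊓ Subgroup.centralizer {t} := Subgroup.mem_inf.2 ⟨hy0,
      Subgroup.mem_centralizer_singleton_iff.2 (by
        calc y * t = t * y * t * t := by rw [hy]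
          _ = t * y := by rw [mul_assoc (t * y) t t, hS.mul_self, mul_one])⟩
    have hσy : C.σ (μ y) = (μ y)⁻¹ := by
      have := hμpow _ inf_le_left y hyV
      rw [T.card_V, pow_succ] at this
      rw [C.hσ, eq_inv_of_mul_eq_one_left this]
    have hσz : C.σ (μ z) = μ z := by
      have := hμpow (invK a t) (RankOne.invK_le hS) z (Subgroup.subset_closure hz)
      have hc := T.card_invK
      rw [show Nat.card (invK a t) = q - 1 by omega] at this
      rw [C.hσ, show q = q - 1 + 1 by omega, pow_succ, this, one_mul]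
    rw [show t * (y * z) * t = y * z⁻¹ by
        calc t * (y * z) * t = (t * y * t) * (t * z * t) := by
              rw [show t * y * t * (t * z * t) = t * y * (t * t) * z * t by group, hS.mul_self]; group
          _ = _ := by rw [hy, hz'],
      hμm y hy0 _ (inv_mem hzD), hμi z hzD, hμm y hy0 z hzD, map_mul, hσy, hσz, mul_inv, inv_inv]
  obtain ⟨⟨s, r⟩, ⟨hs, hr, heq⟩, -⟩ := RankOne.structure_equation hS
  have hrA : r ∈ invSub hS h2 := by
    obtain ⟨v, hv, hv1⟩ : ∃ v ∈ twoStab a t ⊓ Subgroup.centralizer {t}, v ≠ 1 := by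
      refine (twoStab a t ⊓ Subgroup.centralizer {t}).bot_or_exists_ne_one.resolve_left fun h => ?_
      have := T.card_V
      rw [h, Subgroup.card_bot] at this
      omega
    obtain ⟨hvD, hvt⟩ := Subgroup.mem_inf.1 hv
    obtain ⟨ef, hef, -⟩ := RankOne.existsUnique_fixed hS (RankOne.t_invol hS)
    obtain ⟨hsi, hsa⟩ := (RankOne.mem_involutionsIn hS).1 hs
    have hb : (t * s * t) • (t • a) = t • a := by rw [mul_smul, mul_smul, t_t hS, hsa]
    rw [heq, mul_smul, mul_smul, inv_smul_eq_iff] at hb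
    have hre : r • (t • a) = ef := RankOne.fixed_unique hS (RankOne.t_invol hS) hb hef
    exact T.fix v hvD hv1 r hr (RankOne.mem_centralizer_iff_fix hS hvD hr hre
      (RankOne.fixed_of_commute hS (RankOne.t_invol hS) hef (Subgroup.mem_centralizer_singleton_iff.1 hvt).symm))
  have hrr : r⁻¹ = r := by
    rcases hrA with h | h
    · rw [h, inv_one]
    · exact inv_eq_of_mul_eq_one_right h.2.2
  obtain ⟨hsi, hsa⟩ := (RankOne.mem_involutionsIn hS).1 hs
  set sQ : Q := ⟨s, (RankOne.invol_central hS h2 hs).1⟩ with hsQ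
  have hs1 : sQ ≠ 1 := fun h => hsi.1 (congrArg Subtype.val h)
  have hgs : gq hS sQ = ⟨r, hr⟩ := gq_eq hS hs1 (by
    show t • s • t • a = r • t • a
    rw [← mul_smul s, ← mul_smul, ← mul_assoc, heq, hrr, mul_smul, RankOne.smul_a hS hr, mul_smul])
  have hA0 : ∀ x : Q, cA C (e₀ x) = 0 ↔ (x : G) ∈ invSub hS h2 := fun x =>
    (heA x).trans Subgroup.mem_subgroupOf
  have hfixed : ∀ x : Q, (x : G) ∈ invSub hS h2 → C.σ (cB C (e₀ x)) = cB C (e₀ x) := fun x hx => by
    have h := Coords.curve (C := C) (e₀ x)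
    rw [(hA0 x).2 hx, zero_mul, add_zero] at h
    linear_combination h - cB C (e₀ x) * hF2
  have hne : ∀ x : Q, x ≠ 1 → (x : G) ∈ invSub hS h2 → cB C (e₀ x) ≠ 0 := fun x hx hxA h => hx
    (Coords.e_ext (by rw [(hA0 x).2 hxA, map_one, (coord_one C).1]) (by rw [h, map_one, (coord_one C).2]))
  have hsA : (sQ : G) ∈ invSub hS h2 := Or.inr hs
  have hβs := hne sQ hs1 hsA
  have hr1 : (⟨r, hr⟩ : Q) ≠ 1 := hgs ▸ gq_ne hS hs1
  have hβr := hne ⟨r, hr⟩ hr1 hrA
  obtain ⟨n, hnf, hn2⟩ : ∃ n : F, C.σ n = n ∧ n ^ 2 = (cB C (e₀ sQ) * cB C (e₀ ⟨r, hr⟩))⁻¹ := by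
    haveI : CharP F 2 := CharTwo.of_one_ne_zero_of_two_eq_zero one_ne_zero hF2
    obtain ⟨n, hn⟩ := (Finite.injective_iff_bijective.1 (CharTwo.sq_injective (R := F))).2
      (cB C (e₀ sQ) * cB C (e₀ ⟨r, hr⟩))⁻¹
    refine ⟨n, CharTwo.sq_injective ?_, hn⟩
    show C.σ n ^ 2 = n ^ 2
    rw [← map_pow]
    rw [show n ^ 2 = _ from hn, map_inv₀, map_mul, hfixed sQ hsA, hfixed ⟨r, hr⟩ hrA]
  obtain ⟨l, hl⟩ := Hermitian.exists_norm C.hne C.hinv hnf
  have hl0 : l ≠ 0 := fun h => by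
    rw [h, zero_mul] at hl
    rw [← hl, eq_comm] at hn2
    simp [hβs, hβr] at hn2
  obtain ⟨c, hc⟩ := g.surjective (Units.mk0 l hl0)
  have hcl : (g c : F) = l := by rw [hc]; rfl
  have hcomm : ∀ (d : ↥(twoStab a t)) (x : Q), (conjAct hS) c (cq hS d.2 x) = cq hS d.2 ((conjAct hS) c x) := fun d x => by
    show (conjAct hS) c ((conjAct hS) d x) = (conjAct hS) d ((conjAct hS) c x)
    rw [← MulAut.mul_apply, ← map_mul, mul_comm c d, map_mul, MulAut.mul_apply]
  refine ⟨((conjAct hS) c).trans e₀, μ, hμ0, hμi, hμt, fun l' hl' => ?_, fun d hd x => ?_, fun z hz hzA => ?_⟩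
  · obtain ⟨d, hd⟩ := g.surjective (Units.mk0 l' hl')
    exact ⟨d, d.2, by rw [hμdef d, hd]; rfl⟩
  · rw [MulEquiv.trans_apply, MulEquiv.trans_apply, hcomm ⟨d, hd⟩, hμdef ⟨d, hd⟩]
    exact hact ⟨d, hd⟩ ((conjAct hS) c x)
  · rw [MulEquiv.trans_apply, (hact c z).1, mul_eq_zero] at hzA
    have hzA' : (z : G) ∈ invSub hS h2 := (hA0 z).1 (hzA.resolve_left (g c).ne_zero)
    have hz' : (z : G) ∈ Cfsg.involutionsIn (stabilizer G a : Set G) := by
      rcases hzA' with e | e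
      · exact absurd (Subtype.ext e) hz
      · exact e
    obtain ⟨k, hk, hkz⟩ := RankOne.inverted_transitive hS hs hz'
    have hkD : k⁻¹ ∈ twoStab a t := inv_mem hk.1
    have hzk : z = cq hS hkD sQ := Subtype.ext (by
      show (z : G) = k⁻¹ * s * k⁻¹⁻¹
      rw [inv_inv, hkz])
    have hgz : gq hS z = cq hS (conj_t hS hkD) ⟨r, hr⟩ := by rw [hzk, gq_cq hS hkD hs1, hgs]
    simp only [MulEquiv.trans_apply]
    rw [(hact c _).1, (hact c _).2, (hact c z).2, hgz, hzk]
    rw [show cq hS hkD sQ = (conjAct hS) ⟨k⁻¹, hkD⟩ sQ from rfl,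
      show cq hS (conj_t hS hkD) ⟨r, hr⟩ = (conjAct hS) ⟨t * k⁻¹ * t, conj_t hS hkD⟩ ⟨r, hr⟩ from rfl,
      (hact _ ⟨r, hr⟩).1, (hact _ ⟨r, hr⟩).2, (hact _ sQ).2, ← hμdef ⟨t * k⁻¹ * t, conj_t hS hkD⟩,
      ← hμdef ⟨k⁻¹, hkD⟩, hμt _ hkD, hcl, (hA0 _).2 hrA, map_inv₀, C.hinv, hl]
    refine ⟨by rw [mul_zero, mul_zero], ?_⟩
    have hm := hμ0 _ hkD
    have hsm : C.σ (μ k⁻¹) ≠ 0 := (map_ne_zero C.σ).2 hm
    have hn0 : n ≠ 0 := hl ▸ mul_ne_zero hl0 ((map_ne_zero C.σ).2 hl0)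
    field_simp at hn2 ⊢
    linear_combination hn2

end FullData

end Cfsg.Agent.U3Rec
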