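import Cfsg.Agent.Lib.U3Rec.Coord
import Cfsg.Agent.Lib.RankOne.Structure
import Cfsg.Agent.Lib.RankOneU3.StructureMap

/-!
From a rank-one setup with coordinates of `U₃(q)` type (full torus) to the structure map of `PSU₃(q)`, and
hence to the recognition of the group.
-/

set_option autoImplicit false
set_option linter.unusedSectionVars false

namespace Cfsg.Agent.U3Rec

open PSU3Index MulAction

variable {G Ω : Type*} [Group G] [MulAction G Ω] {a : Ω} {t : G} {Q : Subgroup G}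

section Points

variable (hS : Cfsg.IsRankOneSetup G Ω a t Q)
include hS

/-- The image of a regular point under `t`, read in `Q`. -/
theorem exists_gq (x : Q) : ∃ y : Q, x ≠ 1 → t • (x : G) • t • a = (y : G) • t • a := by
  by_cases hx : x = 1
  · exact ⟨1, fun h => absurd hx h⟩
  have hne : t • (x : G) • t • a ≠ a := fun h => hx (Subtype.ext (by
    by_contra h1
    refine RankOne.ta_ne hS (RankOne.eq_a_of_fixed hS x.2 h1 ?_)
    exact MulAction.injective t (by
      show t • _ = t • _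
      rw [h, smul_smul, hS.mul_self, one_smul])))
  obtain ⟨q, hq, hqc⟩ := RankOne.exists_q_smul hS hne
  exact ⟨⟨q, hq⟩, fun _ => hqc.symm⟩

end Points

/-- The image of a regular point under `t`, read in `Q`. -/
noncomputable def gq (hS : Cfsg.IsRankOneSetup G Ω a t Q) (x : Q) : Q := (exists_gq hS x).choose

variable (hS : Cfsg.IsRankOneSetup G Ω a t Q)
include hS

theorem gq_spec {x : Q} (hx : x ≠ 1) : t • (x : G) • t • a = (gq hS x : G) • t • a :=
  (exists_gq hS x).choose_spec hx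

theorem point_inj {x y : Q} (h : (x : G) • t • a = (y : G) • t • a) : x = y :=
  (RankOne.existsUnique_smul hS (RankOne.ta_ne hS) (b := t • a) (fun h' => RankOne.ta_ne hS (by
    rw [eq_inv_smul_iff.2 h', RankOne.smul_a hS (inv_mem y.2)]))).unique h rfl

theorem gq_eq {x y : Q} (hx : x ≠ 1) (h : t • (x : G) • t • a = (y : G) • t • a) : gq hS x = y :=
  point_inj hS ((gq_spec hS hx).symm.trans h)

theorem gq_ne {x : Q} (hx : x ≠ 1) : gq hS x ≠ 1 := fun h => by
  have e := gq_spec hS hx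
  rw [h, Subgroup.coe_one, one_smul] at e
  have e' : (x : G) • t • a = a := MulAction.injective t e
  exact RankOne.ta_ne hS (by rw [eq_inv_smul_iff.2 e', RankOne.smul_a hS (inv_mem x.2)])

theorem t_t (c : Ω) : t • t • c = c := by rw [smul_smul, hS.mul_self, one_smul]

theorem gq_gq {x : Q} (hx : x ≠ 1) : gq hS (gq hS x) = x :=
  gq_eq hS (gq_ne hS hx) (by rw [← gq_spec hS hx, t_t hS])

theorem conj_t {d : G} (hd : d ∈ RankOne.twoStab a t) : t * d * t ∈ RankOne.twoStab a t := by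
  have := RankOne.conj_twoStab hS hd
  rwa [RankOne.inv_t hS] at this

/-- Conjugation of the regular subgroup by an element of the two-point stabiliser. -/
def cq {d : G} (hd : d ∈ RankOne.twoStab a t) (x : Q) : Q :=
  ⟨d * x * d⁻¹, hS.conj_mem d (RankOne.mem_twoStab hS hd).1 x x.2⟩

theorem cq_point {d : G} (hd : d ∈ RankOne.twoStab a t) (x : Q) :
    (cq hS hd x : G) • t • a = d • (x : G) • t • a := by
  show (d * x * d⁻¹) • t • a = _
  rw [mul_smul, mul_smul, inv_smul_eq_iff.2 (RankOne.mem_twoStab hS hd).2.symm]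

theorem cq_ne {d : G} (hd : d ∈ RankOne.twoStab a t) {x : Q} (hx : x ≠ 1) : cq hS hd x ≠ 1 := fun h =>
  hx (Subtype.ext (conj_eq_one_iff.1 (congrArg Subtype.val h)))

theorem gq_cq {d : G} (hd : d ∈ RankOne.twoStab a t) {x : Q} (hx : x ≠ 1) :
    gq hS (cq hS hd x) = cq hS (conj_t hS hd) (gq hS x) := by
  refine gq_eq hS (cq_ne hS hd hx) ?_
  rw [cq_point hS hd, cq_point hS (conj_t hS hd), ← gq_spec hS hx]
  simp only [← mul_smul]
  congr 1
  calc t * (d * ((x : G) * t)) = t * d * (t * t) * ((x : G) * t) := by rw [hS.mul_self]; group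
    _ = _ := by simp only [mul_assoc]

/-- The canonical form of `t x t`. -/
theorem exists_form {x : Q} (hx : x ≠ 1) : ∃ d : G, ∃ f : Q, d ∈ RankOne.twoStab a t ∧
    t * (x : G) * t = gq hS x * d * t * f := by
  have hns : t * (x : G) * t ∉ stabilizer G a := fun h => by
    have e : (gq hS x : G) • t • a = a := by
      rw [← gq_spec hS hx, ← mul_smul (x : G), ← mul_smul, ← mul_assoc, mem_stabilizer_iff.1 h]
    exact RankOne.ta_ne hS (by rw [eq_inv_smul_iff.2 e, RankOne.smul_a hS (inv_mem (gq hS x).2)])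
  obtain ⟨⟨s, f⟩, ⟨hs, hf, he⟩, -⟩ := RankOne.qd_of_canonical hS hns
  obtain ⟨g', hg', d, hd, rfl⟩ := RankOne.exists_qd hS hs
  refine ⟨d, ⟨f, hf⟩, hd, ?_⟩
  have e : (⟨g', hg'⟩ : Q) = gq hS x := (gq_eq hS hx (by
    have := congrArg (· • a) (show t * (x : G) * t = g' * d * t * f from he)
    simp only [mul_smul, RankOne.smul_a hS hf, (RankOne.mem_twoStab hS hd).2] at this
    exact this)).symm
  rw [← e]
  exact he

variable {x : Q} {d : G} {f : Q} (hd : d ∈ RankOne.twoStab a t) (hx : x ≠ 1)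
  (he : t * (x : G) * t = gq hS x * d * t * f)
include hd hx he

theorem f_eq : f = (gq hS x⁻¹)⁻¹ := by
  rw [← inv_inv f]
  congr 1
  refine (gq_eq hS (inv_ne_one.2 hx) ?_).symm
  have e : t * (x : G)⁻¹ * t = (f : G)⁻¹ * (t * (d⁻¹ * (gq hS x : G)⁻¹)) := by
    calc t * (x : G)⁻¹ * t = (t * (x : G) * t)⁻¹ := by
          simp only [mul_inv_rev, RankOne.inv_t hS, mul_assoc]
      _ = _ := by rw [he]; simp only [mul_inv_rev, RankOne.inv_t hS, mul_assoc]
  rw [Subgroup.coe_inv, Subgroup.coe_inv, ← mul_smul, ← mul_smul, e, mul_smul, mul_smul, mul_smul,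
    RankOne.smul_a hS (inv_mem (gq hS x).2), inv_smul_eq_iff.2 (RankOne.mem_twoStab hS hd).1.symm]

theorem gq_f (hf : f ≠ 1) : gq hS f = cq hS (inv_mem hd) (gq hS x)⁻¹ := by
  refine gq_eq hS hf ?_
  have e : t * (f : G) * t = d⁻¹ * (gq hS x : G)⁻¹ * d * (d⁻¹ * t * (x : G)) := by
    calc t * (f : G) * t = d⁻¹ * (gq hS x : G)⁻¹ * ((gq hS x : G) * d * t * f) * t := by group
      _ = d⁻¹ * (gq hS x : G)⁻¹ * (t * x * (t * t)) := by rw [← he]; group
      _ = _ := by rw [hS.mul_self]; group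
  rw [cq_point hS (inv_mem hd), ← mul_smul, ← mul_smul, e, Subgroup.coe_inv]
  simp only [mul_smul, RankOne.smul_a hS x.2, inv_smul_eq_iff.2 (RankOne.mem_twoStab hS hd).2.symm,
    (RankOne.mem_twoStab hS hd).2]

theorem gq_mul {y : Q} (hy : y ≠ 1) (hxy : x * y ≠ 1) (hfy : f * gq hS y ≠ 1) :
    gq hS (x * y) = gq hS x * cq hS hd (gq hS (f * gq hS y)) := by
  refine gq_eq hS hxy ?_
  rw [Subgroup.coe_mul, Subgroup.coe_mul, mul_smul, mul_smul, cq_point hS hd, ← gq_spec hS hfy,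
    Subgroup.coe_mul, mul_smul (f : G), ← gq_spec hS hy]
  simp only [← mul_smul]
  congr 1
  calc t * ((x : G) * ((y : G) * t)) = (t * x * t) * (t * ((y : G) * t)) := by
        rw [show t * (x : G) * t * (t * ((y : G) * t)) = t * x * (t * t) * ((y : G) * t) by group, hS.mul_self]
        group
    _ = _ := by rw [he]; simp only [mul_assoc]

omit hS hd hx he

/-- Coordinates of `U₃(q)` type: the regular subgroup, the full torus, and the central normalisation. -/
structure Coords {F : Type*} [Field F] [Fintype F] {q : ℕ} (C : Ctx F q)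
    (hS : Cfsg.IsRankOneSetup G Ω a t Q) (e : ↥Q ≃* ↥(rad C)) (μ : G → F) : Prop where
  μ_ne : ∀ d ∈ RankOne.twoStab a t, μ d ≠ 0
  μ_inv : ∀ d ∈ RankOne.twoStab a t, μ d⁻¹ = (μ d)⁻¹
  μ_t : ∀ d ∈ RankOne.twoStab a t, μ (t * d * t) = (C.σ (μ d))⁻¹
  surj : ∀ l : F, l ≠ 0 → ∃ d ∈ RankOne.twoStab a t, μ d = l
  act : ∀ (d : G) (hd : d ∈ RankOne.twoStab a t) (x : Q), cA C (e (cq hS hd x)) = μ d * cA C (e x) ∧
    cB C (e (cq hS hd x)) = μ d * C.σ (μ d) * cB C (e x)
  cen : ∀ z : Q, z ≠ 1 → cA C (e z) = 0 → cA C (e (gq hS z)) = 0 ∧ cB C (e (gq hS z)) = (cB C (e z))⁻¹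

namespace Coords

variable {F : Type*} [Field F] [Fintype F] {q : ℕ} {C : Ctx F q}
  {hS : Cfsg.IsRankOneSetup G Ω a t Q} {e : ↥Q ≃* ↥(rad C)} {μ : G → F}

theorem curve (x : rad C) : cB C x + C.σ (cB C x) + cA C x * C.σ (cA C x) = 0 := (exists_mk C x).1

theorem e_ext {x y : Q} (hA : cA C (e x) = cA C (e y)) (hB : cB C (e x) = cB C (e y)) : x = y :=
  e.injective (coord_ext C hA hB)

theorem ne_one_of_cA {x : Q} (h : cA C (e x) ≠ 0) : x ≠ 1 := fun h1 => h (by
  rw [h1, map_one]; exact (coord_one C).1)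

theorem ne_one_of_cB {x : Q} (h : cB C (e x) ≠ 0) : x ≠ 1 := fun h1 => h (by
  rw [h1, map_one]; exact (coord_one C).2)

variable [Finite G] (K : Coords C hS e μ) (h2 : (2 : F) = 0)
include K h2

theorem coords_mul (x y : Q) : cA C (e (x * y)) = cA C (e x) + cA C (e y) ∧
    cB C (e (x * y)) = cB C (e x) + cB C (e y) + C.σ (cA C (e x)) * cA C (e y) := by
  rw [map_mul]
  refine ⟨(coord_mul C _ _).1, (coord_mul C _ _).2.trans ?_⟩
  linear_combination (-(C.σ (cA C (e x)) * cA C (e y))) * h2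

theorem coords_inv (x : Q) : cA C (e x⁻¹) = cA C (e x) ∧ cB C (e x⁻¹) = C.σ (cB C (e x)) := by
  obtain ⟨hA, hB⟩ := K.coords_mul h2 x x⁻¹
  rw [mul_inv_cancel, map_one, (coord_one C).1] at hA
  rw [mul_inv_cancel, map_one, (coord_one C).2] at hB
  have hA' : cA C (e x⁻¹) = cA C (e x) := by linear_combination -hA - cA C (e x) * h2
  refine ⟨hA', ?_⟩
  rw [hA'] at hB
  linear_combination -hB - curve (C := C) (e x)

theorem gq_cA_ne {x : Q} (hx : cA C (e x) ≠ 0) : cA C (e (gq hS x)) ≠ 0 := fun h => hx (by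
  have hx1 := ne_one_of_cA hx
  have := (K.cen _ (gq_ne hS hx1) h).1
  rwa [gq_gq hS hx1] at this)

/-- The torus element in the canonical form of a central element. -/
theorem cen_form {z : Q} (hz : z ≠ 1) (hA : cA C (e z) = 0) {d : G} {f : Q} (hd : d ∈ RankOne.twoStab a t)
    (he : t * (z : G) * t = gq hS z * d * t * f) : μ d = (cB C (e z))⁻¹ ∧ f = gq hS z := by
  have hs := curve (C := C) (e z)
  rw [hA, zero_mul, add_zero] at hs
  have hsσ : C.σ (cB C (e z)) = cB C (e z) := by linear_combination hs - cB C (e z) * h2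
  have hzi : z⁻¹ = z := e_ext (K.coords_inv h2 z).1 ((K.coords_inv h2 z).2.trans hsσ)
  obtain ⟨g0A, g0B⟩ := K.cen z hz hA
  have hgi : (gq hS z)⁻¹ = gq hS z := e_ext (K.coords_inv h2 _).1 ((K.coords_inv h2 _).2.trans (by
    rw [g0B, map_inv₀, hsσ]))
  have hf : f = gq hS z := by rw [f_eq hS hd hz he, hzi, hgi]
  refine ⟨?_, hf⟩
  have hcd : C.σ (μ d) = μ d := by
    have h1 := ((RankOne.h_identities hS z.2 (gq hS z).2 hd f.2 he).1 _ _ _ (gq hS z).2 hd f.2 (by
      rw [← Subgroup.coe_inv, hzi]; exact he)).2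
    have h3 : μ d = μ (t * d⁻¹ * t) := congrArg μ h1
    rw [K.μ_t _ (inv_mem hd), K.μ_inv d hd, map_inv₀, inv_inv] at h3
    exact h3.symm
  have h3 := congrArg (fun x => cB C (e x)) (gq_f hS hd hz he (hf ▸ gq_ne hS hz))
  rw [hf, gq_gq hS hz, hgi, (K.act _ (inv_mem hd) _).2, g0B, K.μ_inv d hd, map_inv₀, hcd] at h3
  have hd0 := K.μ_ne d hd
  have hs0 : cB C (e z) ≠ 0 := fun h0 => hz (e_ext (by rw [hA, map_one, (coord_one C).1])
    (by rw [h0, map_one, (coord_one C).2]))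
  field_simp at h3
  have h4 : (cB C (e z) * μ d + 1) ^ 2 = 0 := by linear_combination h3 + (cB C (e z) * μ d + 1) * h2
  have h5 := pow_eq_zero_iff (n := 2) two_ne_zero |>.1 h4
  exact eq_inv_of_mul_eq_one_left (by linear_combination h5 - h2)

open Classical in
/-- The point with given coordinates. -/
noncomputable def pt (C : Ctx F q) (e : ↥Q ≃* ↥(rad C)) (a b : F) : Q :=
  if h : b + C.σ b + a * C.σ a = 0 then e.symm (uMk C h) else 1

omit [Finite G] K h2 in
theorem pt_coords {a b : F} (h : b + C.σ b + a * C.σ a = 0) :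
    cA C (e (pt C e a b)) = a ∧ cB C (e (pt C e a b)) = b := by
  rw [pt, dif_pos h, MulEquiv.apply_symm_apply]
  exact ⟨cA_mk C h, cB_mk C h⟩

/-- The first coordinate of the structure map on a representative. -/
noncomputable def ell (C : Ctx F q) (hS : Cfsg.IsRankOneSetup G Ω a t Q) (e : ↥Q ≃* ↥(rad C)) (b : F) : F :=
  cA C (e (gq hS (pt C e 1 b)))

/-- The second coordinate of the structure map on a representative. -/
noncomputable def bee (C : Ctx F q) (hS : Cfsg.IsRankOneSetup G Ω a t Q) (e : ↥Q ≃* ↥(rad C)) (b : F) : F :=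
  cB C (e (gq hS (pt C e 1 b)))

/-- The orbit of the image of a representative. -/
noncomputable def bet (C : Ctx F q) (hS : Cfsg.IsRankOneSetup G Ω a t Q) (e : ↥Q ≃* ↥(rad C)) (b : F) : F :=
  bee C hS e b / (ell C hS e b * C.σ (ell C hS e b))

theorem one_curve {b : F} (hb : b + C.σ b = 1) : b + C.σ b + (1 : F) * C.σ 1 = 0 := by
  rw [map_one]; linear_combination hb + h2

theorem one_ne {b : F} (hb : b + C.σ b = 1) : cA C (e (pt C e 1 b)) ≠ 0 := by
  rw [(pt_coords (K.one_curve h2 hb)).1]; exact one_ne_zero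

theorem ell_ne {b : F} (hb : b + C.σ b = 1) : ell C hS e b ≠ 0 := K.gq_cA_ne h2 (K.one_ne h2 hb)

theorem nell_ne {b : F} (hb : b + C.σ b = 1) : ell C hS e b * C.σ (ell C hS e b) ≠ 0 :=
  mul_ne_zero (K.ell_ne h2 hb) ((map_ne_zero C.σ).2 (K.ell_ne h2 hb))

theorem bee_eq {b : F} (hb : b + C.σ b = 1) :
    bee C hS e b = ell C hS e b * C.σ (ell C hS e b) * bet C hS e b :=
  (mul_div_cancel₀ _ (K.nell_ne h2 hb)).symm

theorem bet_mem {b : F} (hb : b + C.σ b = 1) : bet C hS e b + C.σ (bet C hS e b) = 1 := by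
  have h := curve (C := C) (e (gq hS (pt C e 1 b)))
  have hn := K.nell_ne h2 hb
  have h1 := K.ell_ne h2 hb
  have h1' : C.σ (ell C hS e b) ≠ 0 := (map_ne_zero C.σ).2 h1
  rw [bet, map_div₀, map_mul, C.hinv]
  unfold bee ell at *
  field_simp
  linear_combination h - (cA C (e (gq hS (pt C e 1 b))) * C.σ (cA C (e (gq hS (pt C e 1 b))))) * h2

theorem shift {b r : F} (hb : b + C.σ b = 1) (hr : C.σ r = r) : b + r + C.σ (b + r) = 1 := by
  rw [map_add, hr]; linear_combination hb + r * h2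

theorem sigma_eq {b : F} (hb : b + C.σ b = 1) : C.σ b = b + 1 := by linear_combination hb - b * h2

/-- The structure map at any point, from its representative. -/
theorem scaled {x : Q} {l b : F} (hl : l ≠ 0) (hb : b + C.σ b = 1) (hA : cA C (e x) = l)
    (hB : cB C (e x) = l * C.σ l * b) : cA C (e (gq hS x)) = ell C hS e b / C.σ l ∧
      cB C (e (gq hS x)) = bee C hS e b / (l * C.σ l) := by
  obtain ⟨d, hd, hdl⟩ := K.surj l hl
  obtain ⟨pA, pB⟩ := pt_coords (e := e) (K.one_curve h2 hb)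
  have hx : x = cq hS hd (pt C e 1 b) :=
    e_ext (by rw [hA, (K.act d hd _).1, pA, hdl, mul_one]) (by rw [hB, (K.act d hd _).2, pB, hdl])
  have hsl : C.σ l ≠ 0 := (map_ne_zero C.σ).2 hl
  rw [hx, gq_cq hS hd (ne_one_of_cA (K.one_ne h2 hb)), (K.act _ (conj_t hS hd) _).1,
    (K.act _ (conj_t hS hd) _).2, K.μ_t d hd, hdl, map_inv₀, C.hinv]
  unfold ell bee
  exact ⟨by field_simp, by field_simp⟩

/-- The structure map is an involution. -/
theorem invol {b : F} (hb : b + C.σ b = 1) : ell C hS e (bet C hS e b) = C.σ (ell C hS e b) ∧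
    bet C hS e (bet C hS e b) = b := by
  have hl := K.ell_ne h2 hb
  have hsl : C.σ (ell C hS e b) ≠ 0 := (map_ne_zero C.σ).2 hl
  obtain ⟨pA, pB⟩ := pt_coords (e := e) (K.one_curve h2 hb)
  obtain ⟨hA, hB⟩ := K.scaled h2 (x := gq hS (pt C e 1 b)) hl (K.bet_mem h2 hb) rfl (K.bee_eq h2 hb)
  rw [gq_gq hS (ne_one_of_cA (K.one_ne h2 hb)), pA] at hA
  rw [gq_gq hS (ne_one_of_cA (K.one_ne h2 hb)), pB] at hB
  rw [eq_div_iff hsl, one_mul] at hA
  refine ⟨hA.symm, ?_⟩
  rw [show bet C hS e (bet C hS e b) = bee C hS e (bet C hS e b) / (ell C hS e (bet C hS e b) *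
    C.σ (ell C hS e (bet C hS e b))) from rfl, ← hA, C.hinv, mul_comm (C.σ (ell C hS e b))]
  exact hB.symm

omit [Finite G] K h2 in
theorem central_curve {w : F} (h2 : (2 : F) = 0) (hw : C.σ w = w) : w + C.σ w + (0 : F) * C.σ 0 = 0 := by
  rw [hw]; linear_combination w * h2

/-- The relation of `SL₂(q)`: translation on the left by the centre. -/
theorem left_rel {b w : F} (hb : b + C.σ b = 1) (hw : w ≠ 0) (hwf : C.σ w = w) :
    w * C.σ (ell C hS e b) * ell C hS e (b + w) =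
        ell C hS e (bet C hS e b + (w * (ell C hS e b * C.σ (ell C hS e b)))⁻¹) ∧
      bee C hS e (bet C hS e b + (w * (ell C hS e b * C.σ (ell C hS e b)))⁻¹) =
        w ^ 2 * (ell C hS e b * C.σ (ell C hS e b)) * (bee C hS e (b + w) + w⁻¹) := by
  obtain ⟨n, hn⟩ : ∃ n, n = ell C hS e b * C.σ (ell C hS e b) := ⟨_, rfl⟩
  have hn0 : n ≠ 0 := hn ▸ K.nell_ne h2 hb
  have hnf : C.σ n = n := by rw [hn, map_mul, C.hinv, mul_comm]
  have hl := K.ell_ne h2 hb
  have hsl : C.σ (ell C hS e b) ≠ 0 := (map_ne_zero C.σ).2 hl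
  obtain ⟨xA, xB⟩ := pt_coords (e := e) (K.one_curve h2 hb)
  obtain ⟨zA, zB⟩ := pt_coords (e := e) (central_curve h2 hwf)
  set x := pt C e 1 b
  set z := pt C e 0 w
  have hz : z ≠ 1 := ne_one_of_cB (by rw [zB]; exact hw)
  obtain ⟨d, f, hd, he⟩ := exists_form hS hz
  obtain ⟨hμ, hf⟩ := K.cen_form h2 hz zA hd he
  rw [zB] at hμ
  obtain ⟨gA, gB⟩ := K.cen z hz zA
  rw [zB] at gB
  obtain ⟨mA, mB⟩ := K.coords_mul h2 z x
  rw [zA, xA, zero_add] at mA
  rw [zA, zB, xB, map_zero, zero_mul, add_zero] at mB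
  have hzx : z * x = pt C e 1 (b + w) := by
    obtain ⟨rA, rB⟩ := pt_coords (e := e) (K.one_curve h2 (K.shift h2 hb hwf))
    exact e_ext (by rw [mA, rA]) (by rw [mB, rB, add_comm])
  obtain ⟨fA, fB⟩ := K.coords_mul h2 f (gq hS x)
  rw [hf, gA, zero_add] at fA
  rw [hf, gA, gB, map_zero, zero_mul, add_zero, show cB C (e (gq hS x)) = _ from K.bee_eq h2 hb, ← hn] at fB
  obtain ⟨b', hb'⟩ : ∃ b', b' = bet C hS e b + (w * n)⁻¹ := ⟨_, rfl⟩
  have hb'1 : b' + C.σ b' = 1 := hb' ▸ K.shift h2 (K.bet_mem h2 hb) (by rw [map_inv₀, map_mul, hwf, hnf])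
  obtain ⟨sA, sB⟩ := K.scaled h2 (x := gq hS z * gq hS x) hl hb'1 fA (by
    rw [fB, hb', ← hn]; field_simp; ring)
  have hfy : f * gq hS x ≠ 1 := hf ▸ ne_one_of_cA (by rw [fA]; exact hl)
  have hmul := gq_mul hS hd hz he (ne_one_of_cA (K.one_ne h2 hb))
    (ne_one_of_cA (by rw [mA]; exact one_ne_zero)) hfy
  obtain ⟨tA, tB⟩ := K.coords_mul h2 (gq hS z) (cq hS hd (gq hS (f * gq hS x)))
  rw [← hmul, hzx, gA, zero_add, (K.act d hd _).1, hμ, hf, sA] at tA
  rw [← hmul, hzx, gA, gB, map_zero, zero_mul, add_zero, (K.act d hd _).2, hμ, hf, sB, map_inv₀, hwf, ← hn] at tB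
  rw [← hn, ← hb']
  change ell C hS e (b + w) = _ at tA
  change bee C hS e (b + w) = _ at tB
  rw [tA, tB]
  refine ⟨by field_simp, ?_⟩
  field_simp
  linear_combination (-(w * n)) * h2

/-- The relation of a block: translation on the right by the centre. -/
theorem right_rel {b s : F} (hb : b + C.σ b = 1) (hs : s ≠ 0) (hsf : C.σ s = s) :
    ∀ u, u = s * (ell C hS e (b + 1) * C.σ (ell C hS e (b + 1))) /
        (ell C hS e (bet C hS e b + 1) * C.σ (ell C hS e (bet C hS e b + 1))) →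
      ell C hS e (b + s) = ell C hS e b * (1 + u * ell C hS e (bet C hS e b + 1 + u)) ∧
      bee C hS e (b + s) = ell C hS e b * C.σ (ell C hS e b) *
        (bet C hS e b + u ^ 2 * bee C hS e (bet C hS e b + 1 + u) + u +
          u * ell C hS e (bet C hS e b + 1 + u)) := by
  intro u hu
  have hb1 := K.shift h2 hb (map_one C.σ)
  have hl := K.ell_ne h2 hb
  have hl' := K.ell_ne h2 hb1
  have hsl : C.σ (ell C hS e b) ≠ 0 := (map_ne_zero C.σ).2 hl
  have hsl' : C.σ (ell C hS e (b + 1)) ≠ 0 := (map_ne_zero C.σ).2 hl'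
  obtain ⟨xA, xB⟩ := pt_coords (e := e) (K.one_curve h2 hb)
  obtain ⟨zA, zB⟩ := pt_coords (e := e) (central_curve h2 hsf)
  set x := pt C e 1 b
  set z := pt C e 0 s
  have hx : x ≠ 1 := ne_one_of_cA (K.one_ne h2 hb)
  obtain ⟨d, f, hd, he⟩ := exists_form hS hx
  -- the third component
  have hxi : x⁻¹ = pt C e 1 (b + 1) := by
    obtain ⟨iA, iB⟩ := K.coords_inv h2 x
    obtain ⟨rA, rB⟩ := pt_coords (e := e) (K.one_curve h2 hb1)
    exact e_ext (by rw [iA, rA, xA]) (by rw [iB, rB, xB, K.sigma_eq h2 hb])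
  obtain ⟨fA, fB⟩ := K.coords_inv h2 (gq hS x⁻¹)
  rw [← f_eq hS hd hx he, hxi] at fA fB
  change cA C (e f) = ell C hS e (b + 1) at fA
  change cB C (e f) = C.σ (bee C hS e (b + 1)) at fB
  have hf1 : f ≠ 1 := ne_one_of_cA (by rw [fA]; exact hl')
  have hbf := K.shift h2 (K.bet_mem h2 hb1) (map_one C.σ)
  rw [K.bee_eq h2 hb1, map_mul, map_mul, C.hinv, mul_comm (C.σ (ell C hS e (b + 1))),
    K.sigma_eq h2 (K.bet_mem h2 hb1)] at fB
  obtain ⟨hgA, hgB⟩ := K.scaled h2 hl' hbf fA fB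
  obtain ⟨iA, iB⟩ := K.coords_inv h2 (gq hS x)
  rw [gq_f hS hd hx he hf1, (K.act _ (inv_mem hd) _).1, K.μ_inv d hd, iA] at hgA
  rw [gq_f hS hd hx he hf1, (K.act _ (inv_mem hd) _).2, K.μ_inv d hd, iB, map_inv₀] at hgB
  change (μ d)⁻¹ * ell C hS e b = _ at hgA
  change _ * C.σ (bee C hS e b) = _ at hgB
  obtain ⟨c, hc⟩ : ∃ c, c = bet C hS e b + 1 := ⟨_, rfl⟩
  have hc1 : c + C.σ c = 1 := hc ▸ K.shift h2 (K.bet_mem h2 hb) (map_one C.σ)
  have hbc : bet C hS e (b + 1) + 1 = bet C hS e c := by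
    have hm := K.μ_ne d hd
    have hsm : C.σ (μ d) ≠ 0 := (map_ne_zero C.σ).2 hm
    have key : bet C hS e (bet C hS e (b + 1) + 1) = c := by
      have e1 : C.σ (bet C hS e b) = c := by rw [K.sigma_eq h2 (K.bet_mem h2 hb), hc]
      rw [K.bee_eq h2 hbf, K.bee_eq h2 hb, map_mul, map_mul, C.hinv, e1] at hgB
      have hA' : ell C hS e (bet C hS e (b + 1) + 1) = (μ d)⁻¹ * ell C hS e b * C.σ (ell C hS e (b + 1)) := by
        rw [hgA, div_mul_cancel₀ _ hsl']
      rw [hA', map_mul, map_mul, map_inv₀, C.hinv] at hgB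
      field_simp at hgB
      exact hgB.symm
    rw [← key, (K.invol h2 hbf).2]
  rw [hbc, (K.invol h2 hc1).1] at hgA
  have hlc := K.ell_ne h2 hc1
  have hslc : C.σ (ell C hS e c) ≠ 0 := (map_ne_zero C.σ).2 hlc
  have hμ : μ d = ell C hS e b * C.σ (ell C hS e (b + 1)) / C.σ (ell C hS e c) := by
    have := K.μ_ne d hd
    field_simp at hgA ⊢
    linear_combination -hgA
  -- the central translation
  rw [← hc] at hu ⊢
  have hn' := K.nell_ne h2 hb1
  have hnc := K.nell_ne h2 hc1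
  have hu0 : u ≠ 0 := hu ▸ div_ne_zero (mul_ne_zero hs hn') hnc
  have huf : C.σ u = u := by
    rw [hu, map_div₀, map_mul, map_mul, map_mul, C.hinv, C.hinv, hsf, mul_comm (C.σ (ell C hS e (b + 1))),
      mul_comm (C.σ (ell C hS e c))]
  have hz : z ≠ 1 := ne_one_of_cB (by rw [zB]; exact hs)
  obtain ⟨gA, gB⟩ := K.cen z hz zA
  rw [zB] at gB
  obtain ⟨vA, vB⟩ := K.coords_mul h2 f (gq hS z)
  rw [gA, add_zero, fA] at vA
  rw [gA, gB, mul_zero, add_zero, fB, hbc] at vB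
  obtain ⟨b', hb'⟩ : ∃ b', b' = bet C hS e c + (u * (ell C hS e c * C.σ (ell C hS e c)))⁻¹ := ⟨_, rfl⟩
  have hb'1 : b' + C.σ b' = 1 := hb' ▸ K.shift h2 (K.bet_mem h2 hc1) (by
    rw [map_inv₀, map_mul, map_mul, C.hinv, huf, mul_comm (C.σ (ell C hS e c))])
  obtain ⟨sA, sB⟩ := K.scaled h2 (x := f * gq hS z) hl' hb'1 vA (by
    rw [vB, hb', hu]; field_simp)
  obtain ⟨lA, lB⟩ := K.left_rel h2 hc1 hu0 huf
  rw [← hb'] at lA lB
  rw [← lA] at sA
  rw [lB] at sB
  obtain ⟨mA, mB⟩ := K.coords_mul h2 x z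
  rw [zA, xA, add_zero] at mA
  rw [zA, zB, xA, xB, mul_zero, add_zero] at mB
  have hxz : x * z = pt C e 1 (b + s) := by
    obtain ⟨rA, rB⟩ := pt_coords (e := e) (K.one_curve h2 (K.shift h2 hb hsf))
    exact e_ext (by rw [mA, rA]) (by rw [mB, rB])
  have hmul := gq_mul hS hd hx he hz (ne_one_of_cA (by rw [mA]; exact one_ne_zero))
    (ne_one_of_cA (by rw [vA]; exact hl'))
  obtain ⟨tA, tB⟩ := K.coords_mul h2 (gq hS x) (cq hS hd (gq hS (f * gq hS z)))
  rw [← hmul, hxz, (K.act d hd _).1, sA, hμ] at tA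
  rw [← hmul, hxz, (K.act d hd _).1, (K.act d hd _).2, sA, sB, hμ, map_div₀, map_mul, C.hinv, C.hinv] at tB
  change ell C hS e (b + s) = ell C hS e b + _ at tA
  change bee C hS e (b + s) = bee C hS e b + _ + C.σ (ell C hS e b) * _ at tB
  rw [K.bee_eq h2 hb] at tB
  rw [tA, tB]
  refine ⟨by field_simp, ?_⟩
  field_simp
  ring

theorem pow_q (x : F) : x ^ q = C.σ x := (C.hσ x).symm

theorem pow_succ_q (x : F) : x ^ (q + 1) = x * C.σ x := by rw [pow_succ', K.pow_q h2]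

/-- The orbit map of `RankOneU3.StructureMap`. -/
noncomputable def orbitMap : Lib.RankOneU3.OrbitMap F q where
  lam r := ell C hS e (r + 1)
  R r := bet C hS e (r + 1) + 1
  lam_ne r hr := by
    rw [K.pow_q h2] at hr
    exact K.ell_ne h2 (K.shift h2 hr (map_one _))
  R_mem r hr := by
    rw [K.pow_q h2] at hr ⊢
    exact K.shift h2 (K.bet_mem h2 (K.shift h2 hr (map_one _))) (map_one _)
  R_R r hr := by
    rw [K.pow_q h2] at hr
    rw [show bet C hS e (r + 1) + 1 + 1 = bet C hS e (r + 1) by linear_combination h2,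
      (K.invol h2 (K.shift h2 hr (map_one _))).2]
    linear_combination h2
  lam_R r hr := by
    rw [K.pow_q h2] at hr ⊢
    rw [show bet C hS e (r + 1) + 1 + 1 = bet C hS e (r + 1) by linear_combination h2,
      (K.invol h2 (K.shift h2 hr (map_one _))).1]
  relK r w hr hw hwf := by
    rw [K.pow_q h2] at hr hwf
    rw [K.pow_q h2, K.pow_succ_q h2,
      show r + w + 1 = r + 1 + w by ring, (K.left_rel h2 (K.shift h2 hr (map_one _)) hw hwf).1]
    congr 1
    linear_combination h2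
  relE1 r u hr hu huf := by
    rw [K.pow_q h2] at hr huf
    have hb := K.shift h2 hr (map_one C.σ)
    have hc := K.shift h2 (K.bet_mem h2 hb) (map_one C.σ)
    have hb1 := K.shift h2 hb (map_one C.σ)
    refine ⟨u * (ell C hS e (bet C hS e (r + 1) + 1) * C.σ (ell C hS e (bet C hS e (r + 1) + 1))) /
      (ell C hS e (r + 1 + 1) * C.σ (ell C hS e (r + 1 + 1))), div_ne_zero (mul_ne_zero hu (K.nell_ne h2 hc))
      (K.nell_ne h2 hb1), ?_⟩
    set s := u * (ell C hS e (bet C hS e (r + 1) + 1) * C.σ (ell C hS e (bet C hS e (r + 1) + 1))) /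
      (ell C hS e (r + 1 + 1) * C.σ (ell C hS e (r + 1 + 1))) with hs
    have hsf : C.σ s = s := by
      rw [hs, map_div₀, map_mul, map_mul, map_mul, C.hinv, C.hinv, huf]; ring
    have hs0 : s ≠ 0 := div_ne_zero (mul_ne_zero hu (K.nell_ne h2 hc)) (K.nell_ne h2 hb1)
    obtain ⟨eA, eB⟩ := K.right_rel h2 hb hs0 hsf u (by
      have h1 := K.nell_ne h2 hc
      have h3 := K.nell_ne h2 hb1
      rw [hs, div_mul_cancel₀ _ h3, mul_div_cancel_right₀ _ h1])
    have e1 : bet C hS e (r + 1) + 1 + 1 + u + 1 = bet C hS e (r + 1) + 1 + u := by linear_combination h2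
    refine ⟨by rw [K.pow_q h2]; exact hsf, ?_, ?_⟩
    · rw [e1, show r + s + 1 = r + 1 + s by ring, eA]
    · have hbs := K.shift h2 hb hsf
      have hcu := K.shift h2 hc huf
      have hσ : ∀ {y : F}, y + C.σ y = 1 →
          ell C hS e y ^ (q + 1) * (bet C hS e y + 1) = C.σ (bee C hS e y) := fun {y} hy => by
        rw [K.pow_succ_q h2, K.bee_eq h2 hy, map_mul, map_mul, C.hinv, K.sigma_eq h2 (K.bet_mem h2 hy)]; ring
      rw [e1, show r + s + 1 = r + 1 + s by ring, hσ hbs, mul_assoc (u ^ 2), hσ hcu, eB, K.pow_succ_q h2,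
        K.pow_q h2]
      simp only [map_add, map_mul, map_pow, C.hinv, huf, K.sigma_eq h2 (K.bet_mem h2 hb)]
      ring
  relE2 r s hr hs hsf := by
    rw [K.pow_q h2] at hr hsf
    have hb := K.shift h2 hr (map_one C.σ)
    have hc := K.shift h2 (K.bet_mem h2 hb) (map_one C.σ)
    have hb1 := K.shift h2 hb (map_one C.σ)
    obtain ⟨u, hu⟩ : ∃ u, u = s * (ell C hS e (r + 1 + 1) * C.σ (ell C hS e (r + 1 + 1))) /
        (ell C hS e (bet C hS e (r + 1) + 1) * C.σ (ell C hS e (bet C hS e (r + 1) + 1))) := ⟨_, rfl⟩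
    refine ⟨u, hu ▸ div_ne_zero (mul_ne_zero hs (K.nell_ne h2 hb1)) (K.nell_ne h2 hc), ?_, ?_⟩
    · rw [K.pow_q h2, hu, map_div₀, map_mul, map_mul, map_mul, C.hinv, C.hinv, hsf]; ring
    · rw [show bet C hS e (r + 1) + 1 + 1 + u + 1 = bet C hS e (r + 1) + 1 + u by linear_combination h2,
        show r + s + 1 = r + 1 + s by ring, (K.right_rel h2 hb hs hsf u hu).1]

/-- The structure map is the map of `PSU₃(q)`. -/
theorem structure_map {n : ℕ} (hn : q = 2 ^ n) {x : Q} (hx : x ≠ 1) :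
    cA C (e (gq hS x)) = cA C (e x) / cB C (e x) ∧ cB C (e (gq hS x)) = (cB C (e x))⁻¹ := by
  classical
  haveI : CharP F 2 := CharTwo.of_one_ne_zero_of_two_eq_zero one_ne_zero h2
  by_cases hA : cA C (e x) = 0
  · obtain ⟨h1, h3⟩ := K.cen x hx hA
    rw [h1, h3, hA, zero_div]
    exact ⟨rfl, rfl⟩
  have hcard : Fintype.card F = q ^ 2 := by rw [← Nat.card_eq_fintype_card]; exact card_F C
  have hsA : C.σ (cA C (e x)) ≠ 0 := (map_ne_zero C.σ).2 hA
  obtain ⟨b, hb⟩ : ∃ b, b = cB C (e x) / (cA C (e x) * C.σ (cA C (e x))) := ⟨_, rfl⟩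
  have hcur := curve (C := C) (e x)
  have hb1 : b + C.σ b = 1 := by
    rw [hb, map_div₀, map_mul, C.hinv]
    field_simp
    linear_combination hcur - (cA C (e x) * C.σ (cA C (e x))) * h2
  have hB : cB C (e x) = cA C (e x) * C.σ (cA C (e x)) * b := by
    rw [hb, mul_div_cancel₀ _ (mul_ne_zero hA hsA)]
  obtain ⟨sA, sB⟩ := K.scaled h2 hA hb1 rfl hB
  have hr : (b + 1) + (b + 1) ^ q = 1 := by rw [K.pow_q h2]; exact K.shift h2 hb1 (map_one _)
  obtain ⟨m1, m2⟩ := Lib.RankOneU3.orbitMap_eq_model (K.orbitMap h2) hn hcard (b + 1) hr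
  change ell C hS e (b + 1 + 1) = _ at m1
  change bet C hS e (b + 1 + 1) + 1 = _ at m2
  rw [show b + 1 + 1 = b by linear_combination h2] at m1 m2
  rw [K.pow_q h2, map_add, map_one, K.sigma_eq h2 hb1, show b + 1 + 1 = b by linear_combination h2] at m1
  have hbet : bet C hS e b = b + 1 := by linear_combination m2 - h2
  have hb0 : b ≠ 0 := by rintro rfl; simp at hb1
  have hb10 : b + 1 ≠ 0 := fun h0 => hb0 (by rwa [← K.sigma_eq h2 hb1, map_eq_zero] at h0)
  rw [sA, sB, K.bee_eq h2 hb1, hbet, m1, hB, map_inv₀, K.sigma_eq h2 hb1]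
  exact ⟨by field_simp, by field_simp⟩

/-- Recognition from the coordinates alone. -/
theorem recog_psu [FaithfulSMul G Ω] {n : ℕ} (hn : q = 2 ^ n) :
    Nonempty (↥(Q ⊔ Subgroup.zpowers t) ≃* Cfsg.PSU 3 F q) := by
  refine recog hS e fun x y hx hxy => ?_
  have hy : gq hS x = y := gq_eq hS hx hxy
  obtain ⟨hA, hB⟩ := K.structure_map h2 hn hx
  rw [hy] at hA hB
  obtain ⟨h, hu⟩ := exists_mk C (e x)
  have hb : cB C (e x) ≠ 0 := fun h0 => by
    have hy1 := gq_ne hS hx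
    rw [hy] at hy1
    refine hy1 (e_ext (by rw [hA, h0, div_zero, map_one, (coord_one C).1]) ?_)
    rw [hB, h0, inv_zero, map_one, (coord_one C).2]
  rw [congrArg (Subtype.val (p := (· ∈ rad C))) hu]
  show wEl C • uEl C (cA C (e x)) (cB C (e x)) h • opp C = _
  rw [w_point C h hb]
  congr 1
  obtain ⟨h', hu'⟩ := exists_mk C (e y)
  rw [congrArg (Subtype.val (p := (· ∈ rad C))) hu']
  exact SU3Pres.uEl_ext C _ _ (by rw [hA, PSU3Index.two_neg h2]) hB.symm

end Coords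

end Cfsg.Agent.U3Rec
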