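import Cfsg.Agent.Lib.U3Rec.Bridge

/-!
`PGU₃(q)` on the isotropic lines, and its recognition from a split rank-one action with full torus.
-/

set_option autoImplicit false
set_option linter.unusedSectionVars false

namespace Cfsg.Agent.U3Rec

open PSU3Index MulAction Matrix
open Cfsg.Agent.SU3Root (uu ww dd)

variable {F : Type*} [Field F] [Fintype F] {q : ℕ} (C : Ctx F q)

local notation "M3" => Matrix (Fin 3) (Fin 3) F
set_option quotPrecheck false in
local notation "GUq" => ↥(Cfsg.GU 3 F q)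

/-- The matrix of an element in the antidiagonal frame. -/
def mg : GUq →* M3 where
  toFun g := C.fr.Q * ((g : Matrix.GeneralLinearGroup (Fin 3) F) : M3) * C.fr.P
  map_one' := by
    show C.fr.Q * (1 : M3) * C.fr.P = 1
    rw [Matrix.mul_one, C.fr.hQP]
  map_mul' g h := by
    show C.fr.Q * (((g : Matrix.GeneralLinearGroup (Fin 3) F) : M3) * ((h : Matrix.GeneralLinearGroup (Fin 3) F) : M3)) * C.fr.P = _
    rw [show C.fr.Q * ((g : Matrix.GeneralLinearGroup (Fin 3) F) : M3) * C.fr.P *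
      (C.fr.Q * ((h : Matrix.GeneralLinearGroup (Fin 3) F) : M3) * C.fr.P) =
      C.fr.Q * ((g : Matrix.GeneralLinearGroup (Fin 3) F) : M3) * (C.fr.P * C.fr.Q) *
        ((h : Matrix.GeneralLinearGroup (Fin 3) F) : M3) * C.fr.P by simp only [Matrix.mul_assoc],
      C.fr.hPQ, Matrix.mul_one]
    simp only [Matrix.mul_assoc]

theorem mg_inj {g h : GUq} (e : mg C g = mg C h) : g = h := by
  have hb : ∀ M : M3, C.fr.P * (C.fr.Q * M * C.fr.P) * C.fr.Q = M := fun M => by
    rw [show C.fr.P * (C.fr.Q * M * C.fr.P) * C.fr.Q = C.fr.P * C.fr.Q * M * (C.fr.P * C.fr.Q) by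
      simp only [Matrix.mul_assoc], C.fr.hPQ, Matrix.one_mul, Matrix.mul_one]
  apply Subtype.ext
  apply Units.ext
  exact (hb _).symm.trans ((congrArg (fun M => C.fr.P * M * C.fr.Q) e).trans (hb _))

theorem mg_form (g : GUq) : (mg C g)ᵀ * (SU3Root.J : M3) * (mg C g).map C.σ = SU3Root.J := by
  have h := (HermSU.mem_GU_iff C.hσ _).1 g.2
  show (C.fr.Q * _ * C.fr.P)ᵀ * SU3Root.J * (C.fr.Q * _ * C.fr.P).map C.σ = SU3Root.J
  rw [transpose_mul, transpose_mul, Matrix.map_mul, Matrix.map_mul, ← C.fr.hform]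
  set A := ((g : Matrix.GeneralLinearGroup (Fin 3) F) : M3)
  have h1 : C.fr.Qᵀ * C.fr.Pᵀ = 1 := by rw [← transpose_mul, C.fr.hPQ, transpose_one]
  have h2 : C.fr.P.map C.σ * C.fr.Q.map C.σ = 1 := by
    rw [← Matrix.map_mul, C.fr.hPQ, Matrix.map_one _ (map_zero _) (map_one _)]
  rw [show C.fr.Pᵀ * (Aᵀ * C.fr.Qᵀ) * (C.fr.Pᵀ * C.fr.P.map C.σ) *
      (C.fr.Q.map C.σ * A.map C.σ * C.fr.P.map C.σ) =
    C.fr.Pᵀ * Aᵀ * (C.fr.Qᵀ * C.fr.Pᵀ) * (C.fr.P.map C.σ * C.fr.Q.map C.σ) * A.map C.σ * C.fr.P.map C.σ by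
      simp only [Matrix.mul_assoc],
    h1, h2, Matrix.mul_one, Matrix.mul_one, Matrix.mul_assoc C.fr.Pᵀ Aᵀ (A.map C.σ), h, Matrix.mul_one]

theorem mg_entries (g : GUq) (i j : Fin 3) :
    mg C g 0 i * C.σ (mg C g 2 j) + mg C g 1 i * C.σ (mg C g 1 j) + mg C g 2 i * C.σ (mg C g 0 j) =
      (SU3Root.J : M3) i j := by
  have := congrFun (congrFun (mg_form C g) i) j
  simp [SU3Root.J, Matrix.mul_apply, Fin.sum_univ_three] at this ⊢
  linear_combination this

/-- An element from a matrix preserving the form. -/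
theorem exists_of_form (M : M3) (h : Mᵀ * (SU3Root.J : M3) * M.map C.σ = SU3Root.J) : ∃ g : GUq, mg C g = M := by
  have hdet : (C.fr.P * M * C.fr.Q).det ≠ 0 := by
    intro h0
    have h1 := congrArg Matrix.det h
    rw [det_mul, det_mul, det_transpose] at h1
    rw [det_mul, det_mul] at h0
    have hP : C.fr.P.det * C.fr.Q.det = 1 := by rw [← det_mul, C.fr.hPQ, det_one]
    have hM : M.det = 0 := by linear_combination h0 - M.det * hP
    rw [hM, zero_mul, zero_mul] at h1
    simp [det_fin_three, SU3Root.J] at h1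
  let u : GL (Fin 3) F := Matrix.GeneralLinearGroup.mkOfDetNeZero _ hdet
  refine ⟨⟨u, (HermSU.mem_GU_iff C.hσ _).2 ?_⟩, ?_⟩
  · show (C.fr.P * M * C.fr.Q)ᵀ * (C.fr.P * M * C.fr.Q).map C.σ = 1
    rw [transpose_mul, transpose_mul, Matrix.map_mul, Matrix.map_mul,
      show C.fr.Qᵀ * (Mᵀ * C.fr.Pᵀ) * (C.fr.P.map C.σ * M.map C.σ * C.fr.Q.map C.σ) =
        C.fr.Qᵀ * (Mᵀ * (C.fr.Pᵀ * C.fr.P.map C.σ) * M.map C.σ) * C.fr.Q.map C.σ by simp only [Matrix.mul_assoc],
      C.fr.hform, h, ← C.fr.hform, show C.fr.Qᵀ * (C.fr.Pᵀ * C.fr.P.map C.σ) * C.fr.Q.map C.σ =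
        (C.fr.Qᵀ * C.fr.Pᵀ) * (C.fr.P.map C.σ * C.fr.Q.map C.σ) by simp only [Matrix.mul_assoc],
      ← transpose_mul, ← Matrix.map_mul, C.fr.hPQ, transpose_one, Matrix.map_one _ (map_zero C.σ) (map_one C.σ),
      Matrix.one_mul]
  · show C.fr.Q * (C.fr.P * M * C.fr.Q) * C.fr.P = M
    rw [show C.fr.Q * (C.fr.P * M * C.fr.Q) * C.fr.P = C.fr.Q * C.fr.P * M * (C.fr.Q * C.fr.P) by
      simp only [Matrix.mul_assoc], C.fr.hQP, Matrix.one_mul, Matrix.mul_one]

theorem exists_inc (s : ↥(Cfsg.SU 3 F q)) : ∃ g : GUq, mg C g = mat C s := exists_of_form C _ (uni_mat C s).1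

/-- `SU₃(q)` inside `GU₃(q)`. -/
noncomputable def inc : ↥(Cfsg.SU 3 F q) →* GUq where
  toFun s := (exists_inc C s).choose
  map_one' := mg_inj C (by rw [(exists_inc C 1).choose_spec, map_one, mat_one])
  map_mul' x y := mg_inj C (by
    rw [(exists_inc C (x * y)).choose_spec, map_mul, (exists_inc C x).choose_spec, (exists_inc C y).choose_spec,
      mat_mul])

theorem mg_inc (s : ↥(Cfsg.SU 3 F q)) : mg C (inc C s) = mat C s := (exists_inc C s).choose_spec

theorem exists_diag {ν : F} (hν : ν ≠ 0) :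
    ∃ g : GUq, mg C g = !![ν, 0, 0; 0, 1, 0; 0, 0, (C.σ ν)⁻¹] := by
  refine exists_of_form C _ ?_
  have hs : C.σ ν ≠ 0 := (map_ne_zero C.σ).2 hν
  ext i j
  fin_cases i <;> fin_cases j <;> simp [SU3Root.J, Matrix.mul_apply, Fin.sum_univ_three, C.hinv, hν, hs]

/-- The stabiliser of the first isotropic line. -/
def bU : Subgroup GUq where
  carrier := {g | mg C g 1 0 = 0 ∧ mg C g 2 0 = 0}
  one_mem' := by simp
  mul_mem' := fun {g h} hg hh => by
    simp only [Set.mem_ofPred_eq] at hg hh ⊢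
    simp [Matrix.mul_apply, Fin.sum_univ_three, hg.1, hg.2, hh.1, hh.2]
  inv_mem' := fun {g} hg => by
    simp only [Set.mem_ofPred_eq] at hg ⊢
    have hn : mg C g 0 0 ≠ 0 := by
      intro h0
      have := mg_entries C g 0 2
      rw [hg.1, hg.2, h0] at this
      simp [SU3Root.J] at this
    have h : mg C g⁻¹ * mg C g = 1 := by rw [← map_mul, inv_mul_cancel, map_one]
    have h1 := congrFun (congrFun h 1) 0
    have h2 := congrFun (congrFun h 2) 0
    simp [Matrix.mul_apply, Fin.sum_univ_three, hg.1, hg.2] at h1 h2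
    exact ⟨h1.resolve_right hn, h2.resolve_right hn⟩

theorem mem_bU {g : GUq} : g ∈ bU C ↔ mg C g 1 0 = 0 ∧ mg C g 2 0 = 0 := Iff.rfl

theorem inc_mem {s : ↥(Cfsg.SU 3 F q)} : inc C s ∈ bU C ↔ s ∈ borel C := by
  rw [mem_bU, mg_inc, mem_borel]

theorem bruhatU {g : GUq} (hg : g ∉ bU C) : ∃ (a b : F) (h : b + C.σ b + a * C.σ a = 0),
    (inc C (uEl C a b h * wEl C))⁻¹ * g ∈ bU C := by
  have hiso := mg_entries C g 0 0
  simp [SU3Root.J] at hiso
  have h2 : mg C g 2 0 ≠ 0 := by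
    intro h2
    refine hg ((mem_bU C).2 ⟨?_, h2⟩)
    rw [h2] at hiso
    simpa using hiso
  have hσ : C.σ (mg C g 2 0) ≠ 0 := (map_ne_zero C.σ).2 h2
  have h : mg C g 0 0 / mg C g 2 0 + C.σ (mg C g 0 0 / mg C g 2 0) +
      mg C g 1 0 / mg C g 2 0 * C.σ (mg C g 1 0 / mg C g 2 0) = 0 := by
    rw [map_div₀, map_div₀]
    field_simp
    linear_combination hiso
  refine ⟨_, _, h, ?_⟩
  obtain ⟨k, hk⟩ : ∃ k, k = (inc C (uEl C _ _ h * wEl C))⁻¹ * g := ⟨_, rfl⟩
  rw [← hk]
  have e : mg C g = mat C (uEl C _ _ h * wEl C) * mg C k := by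
    rw [← mg_inc, ← map_mul, hk, mul_inv_cancel_left]
  have k0 := congrFun (congrFun e 0) 0
  have k1 := congrFun (congrFun e 1) 0
  have k2 := congrFun (congrFun e 2) 0
  simp [mat_mul, mat_uEl, mat_wEl, uu, ww, Matrix.mul_apply, Fin.sum_univ_three] at k0 k1 k2
  rw [← k2] at k0 k1
  rw [div_mul_cancel₀ _ h2] at k0 k1
  have hk1 : mg C k 1 0 = 0 := by linear_combination k1
  exact (mem_bU C).2 ⟨hk1, by rw [hk1] at k0; linear_combination -k0⟩

/-- The points. -/
noncomputable def toU (x : Pt C) : GUq ⧸ bU C :=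
  Quotient.liftOn' x (fun s => ((inc C s : GUq) : GUq ⧸ bU C)) fun s s' h => by
    rw [QuotientGroup.eq, ← map_inv, ← map_mul, inc_mem]
    exact QuotientGroup.leftRel_apply.1 h

theorem toU_mk (s : ↥(Cfsg.SU 3 F q)) : toU C (s • base C) = ((inc C s : GUq) : GUq ⧸ bU C) := by
  rw [smul_base]; rfl

theorem toU_bijective : Function.Bijective (toU C) := by
  refine ⟨fun x y h => ?_, fun y => ?_⟩
  · obtain ⟨s, rfl⟩ := exists_smul_base C x
    obtain ⟨s', rfl⟩ := exists_smul_base C y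
    rw [toU_mk, toU_mk, QuotientGroup.eq, ← map_inv, ← map_mul, inc_mem] at h
    exact (smul_base_eq_smul C).2 h
  · obtain ⟨g, rfl⟩ := QuotientGroup.mk_surjective y
    by_cases hg : g ∈ bU C
    · exact ⟨(1 : ↥(Cfsg.SU 3 F q)) • base C, by rw [toU_mk, map_one, QuotientGroup.eq, inv_one, one_mul]; exact hg⟩
    · obtain ⟨a, b, h, hk⟩ := bruhatU C hg
      exact ⟨(uEl C a b h * wEl C) • base C, by rw [toU_mk, QuotientGroup.eq]; exact hk⟩

/-- The action of `GU₃(q)` on the points. -/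
noncomputable def actU : GUq →* Equiv.Perm (Pt C) :=
  (Equiv.ofBijective _ (toU_bijective C)).symm.permCongrHom.toMonoidHom.comp
    (MulAction.toPermHom GUq (GUq ⧸ bU C))

theorem actU_apply {g : GUq} {s s' : ↥(Cfsg.SU 3 F q)} (h : (inc C s')⁻¹ * (g * inc C s) ∈ bU C) :
    actU C g (s • base C) = s' • base C := by
  show (Equiv.ofBijective _ (toU_bijective C)).symm (g • toU C (s • base C)) = _
  rw [Equiv.symm_apply_eq, Equiv.ofBijective_apply, toU_mk, toU_mk, MulAction.Quotient.smul_mk,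
    smul_eq_mul, eq_comm, QuotientGroup.eq]
  exact h

theorem actU_inc (s : ↥(Cfsg.SU 3 F q)) : actU C (inc C s) = rho C s := Equiv.ext fun x => by
  obtain ⟨y, rfl⟩ := exists_smul_base C x
  show _ = s • y • base C
  rw [smul_smul]
  refine actU_apply C ?_
  rw [map_mul, inv_mul_cancel]
  exact one_mem _

theorem actU_diag {ν : F} (hν : ν ≠ 0) {g : GUq} (hg : mg C g = !![ν, 0, 0; 0, 1, 0; 0, 0, (C.σ ν)⁻¹]) :
    actU C g (base C) = base C ∧ ∀ {a b : F} (h : b + C.σ b + a * C.σ a = 0)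
      (h' : ν * C.σ ν * b + C.σ (ν * C.σ ν * b) + C.σ ν * a * C.σ (C.σ ν * a) = 0),
      actU C g (uEl C a b h • opp C) = uEl C (C.σ ν * a) (ν * C.σ ν * b) h' • opp C := by
  have hgm : g ∈ bU C := by rw [mem_bU, hg]; simp
  refine ⟨?_, fun {a b} h h' => ?_⟩
  · have := actU_apply C (g := g) (s := 1) (s' := 1) (by rw [map_one, mul_one, inv_one, one_mul]; exact hgm)
    rwa [one_smul] at this
  · rw [opp, smul_smul, smul_smul]
    refine actU_apply C ?_
    have e : g * inc C (uEl C a b h * wEl C) =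
        inc C (uEl C (C.σ ν * a) (ν * C.σ ν * b) h' * wEl C) * ((inc C (wEl C))⁻¹ * g * inc C (wEl C)) := by
      have hs : C.σ ν ≠ 0 := (map_ne_zero C.σ).2 hν
      have hu : g * inc C (uEl C a b h) = inc C (uEl C (C.σ ν * a) (ν * C.σ ν * b) h') * g := mg_inj C (by
        rw [map_mul, map_mul, mg_inc, mg_inc, mat_uEl, mat_uEl, hg]
        ext i j
        fin_cases i <;> fin_cases j <;> simp [uu, Matrix.mul_apply, Fin.sum_univ_three, C.hinv, hs, mul_comm] <;> field_simp)
      calc g * inc C (uEl C a b h * wEl C) = g * inc C (uEl C a b h) * inc C (wEl C) := by rw [map_mul, mul_assoc]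
        _ = _ := by rw [hu, map_mul]; group
    rw [e, inv_mul_cancel_left, ← map_inv, inv_eq_of_mul_eq_one_right (wEl_sq C), mem_bU, map_mul, map_mul, mg_inc,
      mat_wEl, hg]
    simp [ww, Matrix.mul_apply, Fin.sum_univ_three]

theorem ker_actU : (actU C).ker = Subgroup.center GUq := by
  refine le_antisymm (fun g hg => ?_) fun z hz => ?_
  · have hfix : ∀ s : ↥(Cfsg.SU 3 F q), (inc C s)⁻¹ * (g * inc C s) ∈ bU C := fun s => by
      have h := Equiv.ext_iff.1 (MonoidHom.mem_ker.1 hg) (s • base C)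
      rw [Equiv.Perm.one_apply] at h
      have h' : g • toU C (s • base C) = toU C (s • base C) := by
        have := congrArg (Equiv.ofBijective _ (toU_bijective C)) h
        simpa [actU, Equiv.permCongrHom, Equiv.permCongr_apply] using this
      rw [toU_mk, MulAction.Quotient.smul_mk, smul_eq_mul, eq_comm, QuotientGroup.eq] at h'
      exact h'
    have h0 := (mem_bU C).1 (show g ∈ bU C by simpa using hfix 1)
    obtain ⟨h10, h20⟩ := h0
    have hk : ∀ s, ∃ c, ∀ i, (mg C g * mat C s) i 0 = c * mat C s i 0 := fun s => by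
      obtain ⟨k, hk⟩ : ∃ k, k = (inc C s)⁻¹ * (g * inc C s) := ⟨_, rfl⟩
      obtain ⟨k1, k2⟩ := (mem_bU C).1 (hk ▸ hfix s)
      refine ⟨mg C k 0 0, fun i => ?_⟩
      rw [← mg_inc, ← map_mul, show g * inc C s = inc C s * k by rw [hk, mul_inv_cancel_left], map_mul, mg_inc,
        Matrix.mul_apply, Fin.sum_univ_three, k1, k2]
      ring
    obtain ⟨c, hc⟩ := hk (wEl C)
    have h02 : mg C g 0 2 = 0 := by simpa [mat_wEl, ww, Matrix.mul_apply, Fin.sum_univ_three] using hc 0
    have h12 : mg C g 1 2 = 0 := by simpa [mat_wEl, ww, Matrix.mul_apply, Fin.sum_univ_three] using hc 1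
    have hx : ∀ {a b : F} (h : b + C.σ b + a * C.σ a = 0), ∃ c, mg C g 0 0 * b + mg C g 0 1 * a = c * b ∧
        mg C g 1 1 * a = c * a ∧ mg C g 2 1 * a + mg C g 2 2 = c := fun {a b} h => by
      obtain ⟨c, hc⟩ := hk (uEl C a b h * wEl C)
      refine ⟨c, ?_, ?_, ?_⟩
      · have := hc 0
        simpa [mat_mul, mat_uEl, mat_wEl, uu, ww, Matrix.mul_apply, Fin.sum_univ_three, h02] using this
      · have := hc 1
        simpa [mat_mul, mat_uEl, mat_wEl, uu, ww, Matrix.mul_apply, Fin.sum_univ_three, h10, h12] using this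
      · have := hc 2
        simpa [mat_mul, mat_uEl, mat_wEl, uu, ww, Matrix.mul_apply, Fin.sum_univ_three, h20] using this
    obtain ⟨b₁, hb₁⟩ := SU3Pres.exists_b1 C
    obtain ⟨d, hd0, hd⟩ := exists_skew C
    rw [mem_skew] at hd
    obtain ⟨c₁, e0, e1, e2⟩ := hx hb₁
    obtain ⟨c₂, f0, f1, -⟩ := hx (a := 1) (b := b₁ + d) (by rw [map_add]; linear_combination hb₁ + hd)
    rw [mul_one, mul_one] at e1 f1
    rw [← e1, mul_one] at e0
    rw [← f1, mul_one] at f0
    rw [← e1] at e2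
    have h00 : mg C g 0 0 = mg C g 1 1 := mul_right_cancel₀ hd0 (by linear_combination f0 - e0)
    have h01 : mg C g 0 1 = 0 := by rw [h00] at e0; linear_combination e0
    have hx0 : mg C g 1 1 ≠ 0 := fun h0 => by
      have := mg_entries C g 0 2
      rw [h10, h20, h00, h0] at this
      simp [SU3Root.J] at this
    have h21 : mg C g 2 1 = 0 := by
      have h := mg_entries C g 0 1
      rw [h10, h20, h00] at h
      simp [SU3Root.J, hx0] at h
      exact h
    have h22 : mg C g 2 2 = mg C g 1 1 := by rw [h21] at e2; linear_combination e2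
    have hm : mg C g = Matrix.diagonal fun _ => mg C g 1 1 := by
      ext i j
      fin_cases i <;> fin_cases j <;> simp [h00, h01, h02, h10, h12, h20, h21, h22]
    refine Subgroup.mem_center_iff.2 fun y => mg_inj C ?_
    rw [map_mul, map_mul, hm, ← Matrix.scalar_apply]
    exact ((Matrix.scalar_commute (mg C g 1 1) (Commute.all _) _).eq).symm
  · have hz0 : z ∈ bU C := by
      obtain ⟨b₁, hb₁⟩ := SU3Pres.exists_b1 C
      have h1 := congrArg (mg C) (Subgroup.mem_center_iff.1 hz (inc C (uEl C 1 b₁ hb₁)))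
      rw [map_mul, map_mul, mg_inc, mat_uEl] at h1
      have e11 := congrFun (congrFun h1 1) 0
      have e00 := congrFun (congrFun h1 0) 0
      simp [uu, Matrix.mul_apply, Fin.sum_univ_three] at e11 e00
      refine (mem_bU C).2 ⟨?_, e11⟩
      rw [e11] at e00
      simpa using e00
    refine MonoidHom.mem_ker.2 (Equiv.ext fun x => ?_)
    obtain ⟨y, rfl⟩ := exists_smul_base C x
    refine actU_apply C ?_
    rw [← Subgroup.mem_center_iff.1 hz, inv_mul_cancel_left]
    exact hz0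

theorem gen_GU : (inc C).range ⊔ Subgroup.closure {g | ∃ ν : F, ν ≠ 0 ∧
    mg C g = !![ν, 0, 0; 0, 1, 0; 0, 0, (C.σ ν)⁻¹]} ⊔ Subgroup.center GUq = ⊤ := by
  refine eq_top_iff.2 fun g _ => ?_
  set H := (inc C).range ⊔ Subgroup.closure {g | ∃ ν : F, ν ≠ 0 ∧
    mg C g = !![ν, 0, 0; 0, 1, 0; 0, 0, (C.σ ν)⁻¹]} ⊔ Subgroup.center GUq with hH
  have hi : ∀ s, inc C s ∈ H := fun s => Subgroup.mem_sup_left (Subgroup.mem_sup_left ⟨s, rfl⟩)
  have hb : ∀ k ∈ bU C, k ∈ H := by
    intro k hk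
    obtain ⟨h10, h20⟩ := (mem_bU C).1 hk
    have j02 := mg_entries C k 0 2
    rw [h10, h20] at j02
    simp [SU3Root.J] at j02
    have h00 : mg C k 0 0 ≠ 0 := fun h0 => by simp [h0] at j02
    have hs00 : C.σ (mg C k 0 0) ≠ 0 := (map_ne_zero C.σ).2 h00
    have j01 := mg_entries C k 0 1
    rw [h10, h20] at j01
    simp [SU3Root.J, h00] at j01
    have h22 : mg C k 2 2 ≠ 0 := fun h0 => by simp [h0] at j02
    have hs22 : C.σ (mg C k 2 2) ≠ 0 := (map_ne_zero C.σ).2 h22
    have hd' : mg C k 2 2 * C.σ (mg C k 0 0) = 1 := by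
      have := congrArg C.σ j02
      rw [map_mul, C.hinv, map_one] at this
      linear_combination this
    have j11 := mg_entries C k 1 1
    rw [j01] at j11
    simp [SU3Root.J] at j11
    have h11 : mg C k 1 1 ≠ 0 := fun h0 => by simp [h0] at j11
    have j22 := mg_entries C k 2 2
    simp [SU3Root.J] at j22
    have j12 := mg_entries C k 1 2
    rw [j01] at j12
    simp [SU3Root.J] at j12
    have h : mg C k 0 2 / mg C k 2 2 + C.σ (mg C k 0 2 / mg C k 2 2) +
        mg C k 1 2 / mg C k 2 2 * C.σ (mg C k 1 2 / mg C k 2 2) = 0 := by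
      rw [map_div₀, map_div₀]
      field_simp
      linear_combination j22
    obtain ⟨y, hy⟩ := exists_of_form C (Matrix.diagonal fun _ => mg C k 1 1) (by
      ext i j
      fin_cases i <;> fin_cases j <;> simp [SU3Root.J, Matrix.mul_apply, Fin.sum_univ_three, j11])
    obtain ⟨δ, hδ⟩ := exists_diag C (ν := mg C k 0 0 / mg C k 1 1) (div_ne_zero h00 h11)
    have e : k = inc C (uEl C _ _ h) * y * δ := mg_inj C (by
      rw [map_mul, map_mul, mg_inc, mat_uEl, hy, hδ]
      have e11 : mg C k 1 1 * C.σ (mg C k 1 1) = 1 := j11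
      have hs11 : C.σ (mg C k 1 1) ≠ 0 := (map_ne_zero C.σ).2 h11
      ext i j
      fin_cases i <;> fin_cases j <;>
        simp [uu, Matrix.mul_apply, Fin.sum_univ_three, h10, h20, j01, map_div₀] <;> field_simp
      all_goals first
        | linear_combination j12 | linear_combination -j12 | linear_combination hd' | linear_combination -hd'
        | linear_combination mg C k 1 1 * C.σ (mg C k 1 1) * hd' + e11
        | linear_combination mg C k 0 2 * hd' - mg C k 0 2 * e11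
        | linear_combination mg C k 0 2 * e11 - mg C k 0 2 * hd'
        | linear_combination mg C k 1 2 * hd' - mg C k 1 2 * e11
        | linear_combination mg C k 1 2 * e11 - mg C k 1 2 * hd'
        | linear_combination e11 - hd' | linear_combination hd' - e11)
    rw [e]
    refine mul_mem (mul_mem (hi _) (Subgroup.mem_sup_right ?_))
      (Subgroup.mem_sup_left (Subgroup.mem_sup_right (Subgroup.subset_closure ⟨_, div_ne_zero h00 h11, hδ⟩)))
    refine Subgroup.mem_center_iff.2 fun x => mg_inj C ?_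
    rw [map_mul, map_mul, hy, ← Matrix.scalar_apply]
    exact ((Matrix.scalar_commute (mg C k 1 1) (Commute.all _) _).eq).symm
  by_cases hg : g ∈ bU C
  · exact hb g hg
  obtain ⟨a, b, h, hk⟩ := bruhatU C hg
  have := mul_mem (hi (uEl C a b h * wEl C)) (hb _ hk)
  rwa [mul_inv_cancel_left] at this

variable {C}
variable {G Ω : Type*} [Group G] [Finite G] [MulAction G Ω] [FaithfulSMul G Ω] {a : Ω} {t : G} {Q : Subgroup G}
  {hS : Cfsg.IsRankOneSetup G Ω a t Q} {e : ↥Q ≃* ↥(rad C)} {μ : G → F}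

/-- Recognition of `PGU₃(q)`. -/
theorem Coords.recog_pgu (K : Coords C hS e μ) (h2 : (2 : F) = 0) {n : ℕ} (hn : q = 2 ^ n) :
    Nonempty (G ≃* GUq ⧸ Subgroup.center GUq) := by
  classical
  have htt : t • t • a = a := by rw [smul_smul, hS.mul_self, one_smul]
  let f : Option ↥Q → Ω := fun o => o.elim a fun x => (x : G) • t • a
  have hne : ∀ x : Q, (x : G) • t • a ≠ a := fun x h => RankOne.ta_ne hS (by
    rw [eq_inv_smul_iff.2 h, RankOne.smul_a hS (inv_mem x.2)])
  have hf : Function.Bijective f := by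
    refine ⟨?_, fun c => ?_⟩
    · rintro (- | x) (- | y) h
      · rfl
      · exact absurd h.symm (hne y)
      · exact absurd h (hne x)
      · exact congrArg some (point_inj hS h)
    · by_cases hc : c = a
      · exact ⟨none, hc.symm⟩
      · obtain ⟨x, hx, h⟩ := RankOne.exists_q_smul hS hc
        exact ⟨some ⟨x, hx⟩, h⟩
  let E : Ω ≃ Pt C :=
    (Equiv.ofBijective f hf).symm.trans (e.toEquiv.optionCongr.trans (Equiv.ofBijective _ (toPt_bijective C)))
  have hE : ∀ x : Q, E ((x : G) • t • a) = (e x : ↥(Cfsg.SU 3 F q)) • opp C := fun x => by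
    have : (Equiv.ofBijective f hf).symm ((x : G) • t • a) = some x := (Equiv.symm_apply_eq _).2 rfl
    simp [E, this, toPt]
  have hEa : E a = base C := by
    have : (Equiv.ofBijective f hf).symm a = none := (Equiv.symm_apply_eq _).2 rfl
    simp [E, this, toPt]
  let R : G →* Equiv.Perm (Pt C) := E.permCongrHom.toMonoidHom.comp (MulAction.toPermHom G Ω)
  have hR : ∀ g c, R g (E c) = E (g • c) := fun g c => by
    simp [R, Equiv.permCongrHom, Equiv.permCongr_apply]
  have hRinj : Function.Injective R := E.permCongrHom.injective.comp MulAction.toPerm_injective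
  have hext : ∀ (g : G) (p : Equiv.Perm (Pt C)), p (base C) = E (g • a) →
      (∀ y : Q, p ((e y : ↥(Cfsg.SU 3 F q)) • opp C) = E (g • (y : G) • t • a)) → R g = p := by
    intro g p h0 h1
    refine Equiv.ext fun c => ?_
    obtain ⟨c, rfl⟩ := E.surjective c
    rw [hR]
    by_cases hc : c = a
    · rw [hc, hEa, h0]
    · obtain ⟨y, hy, rfl⟩ := RankOne.exists_q_smul hS hc
      rw [show E (y • t • a) = _ from hE ⟨y, hy⟩, h1 ⟨y, hy⟩]
  have hQ : ∀ x : Q, R x = actU C (inc C (e x : ↥(Cfsg.SU 3 F q))) := fun x => by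
    rw [actU_inc]
    refine hext _ _ ?_ fun y => ?_
    · rw [RankOne.smul_a hS x.2, hEa]; exact (smul_base_eq_iff C).2 (e x).2.1
    · rw [smul_smul (x : G), show (x : G) * y = ((x * y : Q) : G) from rfl, hE, map_mul, Subgroup.coe_mul,
        mul_smul]
      rfl
  have ht : R t = actU C (inc C (wEl C)) := by
    rw [actU_inc]
    refine hext _ _ ?_ fun y => ?_
    · have := hE 1
      rw [Subgroup.coe_one, one_smul, map_one, Subgroup.coe_one, one_smul] at this
      rw [this]; rfl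
    · show wEl C • ((e y : ↥(Cfsg.SU 3 F q)) • opp C) = _
      by_cases hy : y = 1
      · rw [hy, map_one, Subgroup.coe_one, Subgroup.coe_one, one_smul, one_smul, w_opp, htt, hEa]
      · rw [gq_spec hS hy, hE]
        obtain ⟨hA, hB⟩ := K.structure_map h2 hn hy
        obtain ⟨h, hu⟩ := exists_mk C (e y)
        obtain ⟨h', hu'⟩ := exists_mk C (e (gq hS y))
        have hb : cB C (e y) ≠ 0 := fun h0 => gq_ne hS hy (Coords.e_ext
          (by rw [hA, h0, div_zero, map_one, (coord_one C).1]) (by rw [hB, h0, _root_.inv_zero, map_one, (coord_one C).2]))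
        rw [congrArg (Subtype.val (p := (· ∈ rad C))) hu, congrArg (Subtype.val (p := (· ∈ rad C))) hu']
        show wEl C • uEl C _ _ h • opp C = _
        rw [w_point C h hb]
        congr 1
        exact SU3Pres.uEl_ext C _ _ (by rw [hA, PSU3Index.two_neg h2]) hB.symm
  have hD : ∀ d ∈ RankOne.twoStab a t, ∀ g : GUq,
      mg C g = !![C.σ (μ d), 0, 0; 0, 1, 0; 0, 0, (C.σ (C.σ (μ d)))⁻¹] → R d = actU C g := by
    intro d hd g hg
    have hν : C.σ (μ d) ≠ 0 := (map_ne_zero C.σ).2 (K.μ_ne d hd)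
    obtain ⟨h0, h1⟩ := actU_diag C hν hg
    refine hext _ _ ?_ fun y => ?_
    · rw [h0, (RankOne.mem_twoStab hS hd).1, hEa]
    · rw [← cq_point hS hd, hE]
      obtain ⟨h, hu⟩ := exists_mk C (e y)
      obtain ⟨h', hu'⟩ := exists_mk C (e (cq hS hd y))
      rw [congrArg (Subtype.val (p := (· ∈ rad C))) hu, congrArg (Subtype.val (p := (· ∈ rad C))) hu']
      show actU C g (uEl C _ _ h • opp C) = uEl C _ _ h' • opp C
      have h'' : C.σ (μ d) * C.σ (C.σ (μ d)) * cB C (e y) + C.σ (C.σ (μ d) * C.σ (C.σ (μ d)) * cB C (e y)) +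
          C.σ (C.σ (μ d)) * cA C (e y) * C.σ (C.σ (C.σ (μ d)) * cA C (e y)) = 0 := by
        simp only [map_mul, C.hinv]
        linear_combination (μ d * C.σ (μ d)) * h
      rw [h1 h h'']
      congr 1
      exact SU3Pres.uEl_ext C _ _ (by rw [C.hinv, (K.act d hd y).1])
        (by rw [C.hinv, (K.act d hd y).2, mul_comm (C.σ (μ d))])
  have hge : R.range = (actU C).range := by
    refine le_antisymm ?_ ?_
    · rintro _ ⟨g, rfl⟩
      have hs : ∀ g ∈ stabilizer G a, R g ∈ (actU C).range := by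
        intro g hg
        obtain ⟨q', hq', d, hd, rfl⟩ := RankOne.exists_qd hS hg
        rw [map_mul]
        obtain ⟨γ, hγ⟩ := exists_diag C ((map_ne_zero C.σ).2 (K.μ_ne d hd))
        exact mul_mem ⟨_, (hQ ⟨q', hq'⟩).symm⟩ ⟨γ, (hD d hd γ hγ).symm⟩
      by_cases hg : g ∈ stabilizer G a
      · exact hs g hg
      · obtain ⟨⟨s, f'⟩, ⟨hsa, hf', he⟩, -⟩ := RankOne.qd_of_canonical hS hg
        rw [show g = s * t * f' from he, map_mul, map_mul]
        exact mul_mem (mul_mem (hs s hsa) ⟨_, ht.symm⟩) ⟨_, (hQ ⟨f', hf'⟩).symm⟩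
    · rw [MonoidHom.range_eq_map (actU C), ← gen_GU C, Subgroup.map_sup, Subgroup.map_sup]
      refine sup_le (sup_le ?_ ?_) ?_
      · rw [MonoidHom.map_range, MonoidHom.range_eq_map, ← rad_sup_w C, Subgroup.map_sup, MonoidHom.map_zpowers]
        refine sup_le ?_ (Subgroup.zpowers_le.2 ⟨t, ht⟩)
        rintro _ ⟨u, hu, rfl⟩
        exact ⟨(e.symm ⟨u, hu⟩ : Q), by rw [hQ, MulEquiv.apply_symm_apply]; rfl⟩
      · rw [MonoidHom.map_closure, Subgroup.closure_le]
        rintro _ ⟨γ, ⟨ν, hν, hγ⟩, rfl⟩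
        obtain ⟨d, hd, hdν⟩ := K.surj (C.σ ν) ((map_ne_zero C.σ).2 hν)
        exact ⟨d, hD d hd γ (by rw [hdν, C.hinv]; exact hγ)⟩
      · rw [← ker_actU]
        rintro _ ⟨z, hz, rfl⟩
        rw [MonoidHom.mem_ker.1 hz]; exact one_mem _
  exact ⟨((MonoidHom.ofInjective hRinj).trans (MulEquiv.subgroupCongr hge)).trans
    ((QuotientGroup.quotientKerEquivRange (actU C)).symm.trans
      (QuotientGroup.quotientMulEquivOfEq (ker_actU C)))⟩

end Cfsg.Agent.U3Rec
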