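import Cfsg.Agent.Lib.RankOneU3.Torus
import Cfsg.Agent.Lib.U3Rec.Build
import Cfsg.Agent.Lib.U3Rec.PGU

/-!
A group with one class of involutions whose centralisers have the shape of those of `PGU₃(q)` is `PGU₃(q)`.
-/

set_option autoImplicit false
set_option linter.unusedSectionVars false

namespace Cfsg.Agent.U3Rec

open RankOneU3

universe u v

variable {G : Type u} [Group G] [Finite G] {F : Type v} [Field F] [Fintype F] [CharP F 2]
variable {q : ℕ} {x₀ : G} {A : Subgroup (cC x₀)} {χ : cC x₀ →* Fˣ} {c : cC x₀ → F}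

/-- Identification from the centraliser type. -/
theorem iso_of_entry (h : EntryHyp q x₀ A χ c) :
    Nonempty (G ≃* (↥(Cfsg.GU 3 F q) ⧸ Subgroup.center ↥(Cfsg.GU 3 F q))) := by
  obtain ⟨t, hS, hF, -, g, hg⟩ := exists_setup h
  haveI := hF
  have h2 := exists_commuting h
  have hq := h.two_lt
  have hinv : ∀ y, y ∈ RankOne.invSub hS h2 ↔ y ∈ AG A := fun y => by
    constructor
    · intro hy
      rcases hy with rfl | hy
      · exact one_mem _
      · obtain ⟨hyi, hya⟩ := (RankOne.mem_involutionsIn hS).1 hy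
        exact (mem_AG h).2 ⟨TG_le h (RankOne.invol_mem_Q hS hyi hya), hyi.2⟩
    · intro hy
      by_cases h1 : y = 1
      · exact Or.inl h1
      · exact Or.inr ((RankOne.mem_involutionsIn hS).2
          ⟨⟨h1, AG_sq h hy⟩, RankOne.smul_a hS (AG_le_TG h hy)⟩)
  have hcA : Nat.card (RankOne.invSub hS h2) = q := by
    rw [← card_AG h]; exact Nat.card_congr (Equiv.subtypeEquivRight hinv)
  have hcD : Nat.card (RankOne.twoStab (pt A) t) = q ^ 2 - 1 := by
    rw [Nat.card_congr g.toEquiv, Nat.card_units, Nat.card_eq_fintype_card, h.card_F]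
  have T : FullData hS h2 q :=
    { two := by
        obtain ⟨n, -, hn⟩ := q_even h
        exact IsPGroup.of_card (n := n * 3) (by rw [card_TG h, hn, ← pow_mul])
      card_Q := card_TG h
      card_A := hcA
      comm := fun d hd d' hd' => congrArg Subtype.val (g.injective (a₁ := ⟨d, hd⟩ * ⟨d', hd'⟩)
        (a₂ := ⟨d', hd'⟩ * ⟨d, hd⟩) (by rw [map_mul, map_mul, mul_comm]))
      card_D := hcD
      card_V := by
        have hK : Nat.card (Cfsg.invertedBy (RankOne.twoStab (pt A) t) t) + 1 = q := by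
          rw [RankOne.card_inverted hS, ← hcA, RankOne.card_invSub hS h2]
        have hdec := RankOne.card_decomp hS.mul_self (RankOne.twoStab (pt A) t) hS.odd_card
          (fun x hx => RankOne.conj_twoStab hS hx)
        rw [hcD] at hdec
        rw [show q ^ 2 - 1 = (q + 1) * Nat.card (Cfsg.invertedBy (RankOne.twoStab (pt A) t) t) by
          rw [show (1 : ℕ) = 1 ^ 2 from rfl, Nat.sq_sub_sq, one_pow]
          congr 1
          omega] at hdec
        exact (Nat.eq_of_mul_eq_mul_right (by omega) hdec).symm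
      fix := fun d hd hd1 x hx hfix => by
        refine (hinv x).2 ((cG_zero_iff h hx).1 ?_)
        have h1 := hg ⟨d, hd⟩ x hx
        rw [show (((⟨d, hd⟩ : RankOne.twoStab (pt A) t) : G) * x * ((⟨d, hd⟩ : RankOne.twoStab (pt A) t) : G)⁻¹) = x
          from hfix] at h1
        by_contra hx0
        have hg1 : g ⟨d, hd⟩ = 1 := Units.ext ((right_eq_mul₀ hx0).1 h1)
        rw [map_eq_one_iff g g.injective] at hg1
        exact hd1 (congrArg Subtype.val hg1) }
  obtain ⟨C⟩ := PSU3Index.exists_ctx h.card_F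
  have h2F : (2 : F) = 0 := CharTwo.two_eq_zero
  obtain ⟨e, μ, K⟩ := T.exists_coords C h2F
  obtain ⟨n, -, hn⟩ := q_even h
  exact K.recog_pgu h2F hn

end Cfsg.Agent.U3Rec
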